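import Mathlib

/-!
# Rigidity over a base for morphisms with only constant functions on the fibres
-/

set_option autoImplicit false
set_option backward.isDefEq.respectTransparency false
set_option linter.style.haveILetI false

universe u

open CategoryTheory CategoryTheory.Limits AlgebraicGeometry TopologicalSpace Opposite

noncomputable section

namespace Groth.Agent.RigidLib

variable {X S Y : Scheme.{u}} {p : X ⟶ S}

/-- Functions on `p⁻¹ W` come from `W`. -/
def BijApp (p : X ⟶ S) : Prop := ∀ V : S.Opens, Function.Bijective (p.app V).hom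

theorem bijective_restrict_appTop (h0 : BijApp p) (W : S.Opens) :
    Function.Bijective (p ∣_ W).appTop.hom := by
  rw [Scheme.Hom.appTop, morphismRestrict_app, CommRingCat.hom_comp, RingHom.coe_comp]
  exact (ConcreteCategory.bijective_of_isIso (X.presheaf.map (eqToHom _).op)).comp (h0 _)

/-- A surjective morphism with only constant functions is an epimorphism. -/
theorem cancel_left (hp : Surjective p) (h0 : BijApp p) {t t' : S ⟶ Y} (h : p ≫ t = p ≫ t') : t = t' := by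
  have hbase : ∀ s, t s = t' s := fun s => by
    obtain ⟨x, rfl⟩ := p.surjective s
    rw [← Scheme.Hom.comp_apply, h, Scheme.Hom.comp_apply]
  choose V hV hs using fun s : S => (Y.isBasis_affineOpens.exists_subset_of_mem_open (Set.mem_univ (t s)) isOpen_univ)
  choose U₀ hU hUV using hV
  let U : S → Y.Opens := U₀
  refine (S.openCoverOfIsOpenCover (fun s => t ⁻¹ᵁ U s) (eq_top_iff.2 fun s _ => Opens.mem_iSup.2
    ⟨s, by have := (hs s).1; rw [← hUV s] at this; exact this⟩)).hom_ext _ _ fun s => ?_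
  show (t ⁻¹ᵁ U s).ι ≫ t = (t ⁻¹ᵁ U s).ι ≫ t'
  have hle : t ⁻¹ᵁ U s ≤ t' ⁻¹ᵁ U s := fun z hz => by
    show t' z ∈ U s
    rw [← hbase]
    exact hz
  let a : (t ⁻¹ᵁ U s).toScheme ⟶ (U s).toScheme := t.resLE (U s) _ le_rfl
  let b : (t ⁻¹ᵁ U s).toScheme ⟶ (U s).toScheme := t'.resLE (U s) _ hle
  haveI : IsAffine (U s).toScheme := hU s
  have hab : a = b := ext_of_isAffine <| by
    have h2 : (p ∣_ t ⁻¹ᵁ U s) ≫ a = (p ∣_ t ⁻¹ᵁ U s) ≫ b := by
      rw [← cancel_mono (U s).ι]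
      simp only [Category.assoc, a, b, Scheme.Hom.resLE_comp_ι, morphismRestrict_ι_assoc, h]
    have h3 := congrArg Scheme.Hom.appTop h2
    rw [Scheme.Hom.comp_appTop, Scheme.Hom.comp_appTop] at h3
    ext z
    exact (bijective_restrict_appTop h0 _).1 congr($(h3).hom z)
  rw [← Scheme.Hom.resLE_comp_ι t (le_refl (t ⁻¹ᵁ U s)), ← Scheme.Hom.resLE_comp_ι t' hle]
  exact congrArg (· ≫ (U s).ι) hab

theorem surjective_restrict (hp : Surjective p) (W : S.Opens) : Surjective (p ∣_ W) :=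
  IsZariskiLocalAtTarget.restrict hp W

theorem bijApp_restrict (h0 : BijApp p) (W : S.Opens) : BijApp (p ∣_ W) := fun V => by
  rw [morphismRestrict_app, CommRingCat.hom_comp, RingHom.coe_comp]
  exact (ConcreteCategory.bijective_of_isIso (X.presheaf.map (eqToHom _).op)).comp (h0 _)

/-- Near a fibre that is collapsed to a point, a morphism factors through the base. -/
theorem exists_factor (hcl : IsClosedMap p) (h0 : BijApp p) (f : X ⟶ Y) {s : S} {y : Y}
    (hs : ∀ x, p x = s → f x = y) : ∃ (W : S.Opens) (k : W.toScheme ⟶ Y), s ∈ W ∧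
      (p ∣_ W) ≫ k = (p ⁻¹ᵁ W).ι ≫ f := by
  obtain ⟨_, ⟨V : Y.Opens, hV, rfl⟩, hyV, -⟩ := Y.isBasis_affineOpens.exists_subset_of_mem_open (Set.mem_univ y) isOpen_univ
  have hV : IsAffineOpen V := hV
  let W : S.Opens := ⟨(p '' ((f ⁻¹ᵁ V : X.Opens) : Set X)ᶜ)ᶜ, (hcl _ (f ⁻¹ᵁ V).2.isClosed_compl).isOpen_compl⟩
  have hsW : s ∈ W := by
    rintro ⟨x, hx, hxs⟩
    exact hx (show f x ∈ V by rw [hs x hxs]; exact hyV)
  have hle : p ⁻¹ᵁ W ≤ f ⁻¹ᵁ V := fun x hx => by
    by_contra h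
    exact hx ⟨x, h, rfl⟩
  let a : (p ⁻¹ᵁ W).toScheme ⟶ V.toScheme := f.resLE V _ hle
  haveI : IsAffine V.toScheme := hV
  haveI : IsIso (p ∣_ W).appTop := (ConcreteCategory.isIso_iff_bijective _).2 (bijective_restrict_appTop h0 W)
  let k : W.toScheme ⟶ V.toScheme :=
    W.toScheme.toSpecΓ ≫ Spec.map (a.appTop ≫ inv (p ∣_ W).appTop) ≫ V.toScheme.isoSpec.inv
  refine ⟨W, k ≫ V.ι, hsW, ?_⟩
  have hk : (p ∣_ W) ≫ k = a := by
    simp only [k]
    rw [← cancel_mono V.toScheme.isoSpec.hom, Category.assoc, Category.assoc, Category.assoc, Iso.inv_hom_id,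
      Category.comp_id, Scheme.toSpecΓ_naturality_assoc, ← Spec.map_comp, Category.assoc, IsIso.inv_hom_id,
      Category.comp_id]
    exact (Scheme.toSpecΓ_naturality a).symm
  rw [← Category.assoc, hk, Scheme.Hom.resLE_comp_ι]

/-- The points over which `f` collapses the fibre. -/
def locus (p : X ⟶ S) (f : X ⟶ Y) : Set S := {s | ∃ y : Y, ∀ x : X, p x = s → f x = y}

theorem mem_locus_iff (hp : Surjective p) (f : X ⟶ Y) {s : S} :
    s ∈ locus p f ↔ ∀ x x', p x = s → p x' = s → f x = f x' := by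
  refine ⟨fun ⟨y, hy⟩ x x' h h' => (hy x h).trans (hy x' h').symm, fun h => ?_⟩
  obtain ⟨x, hx⟩ := p.surjective s
  exact ⟨f x, fun x' hx' => h x' x hx' hx⟩

theorem isOpen_locus (hcl : IsClosedMap p) (h0 : BijApp p) (f : X ⟶ Y) : IsOpen (locus p f) := by
  rw [isOpen_iff_forall_mem_open]
  rintro s ⟨y, hy⟩
  obtain ⟨W, k, hsW, hk⟩ := exists_factor hcl h0 f hy
  refine ⟨W, fun s' hs' => ⟨k ⟨s', hs'⟩, fun x hx => ?_⟩, W.2, hsW⟩
  have h := congrArg (fun g : (p ⁻¹ᵁ W).toScheme ⟶ Y => g ⟨x, show p x ∈ W by rw [hx]; exact hs'⟩) hk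
  simp only [Scheme.Hom.comp_apply] at h
  refine h.symm.trans (congrArg k (Subtype.ext ?_))
  have h2 := congrArg (fun g : (p ⁻¹ᵁ W).toScheme ⟶ S => g ⟨x, show p x ∈ W by rw [hx]; exact hs'⟩) (morphismRestrict_ι p W)
  simp only [Scheme.Hom.comp_apply] at h2
  exact h2.trans hx

/-- Over an open where every fibre is collapsed, a morphism over the base factors through a section. -/
theorem exists_section_over (hcl : IsClosedMap p) (hp : Surjective p) (h0 : BijApp p) {q : Y ⟶ S} (f : X ⟶ Y)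
    (hf : f ≫ q = p) (U : S.Opens) (hU : (U : Set S) ⊆ locus p f) :
    ∃ r : U.toScheme ⟶ Y, r ≫ q = U.ι ∧ (p ∣_ U) ≫ r = (p ⁻¹ᵁ U).ι ≫ f := by
  choose y hy using fun s : U => hU s.2
  choose W k hsW hk using fun s : U => exists_factor hcl h0 f (hy s)
  let Vs : U → U.toScheme.Opens := fun s => U.ι ⁻¹ᵁ W s
  have hcov : IsOpenCover Vs := eq_top_iff.2 fun s _ => Opens.mem_iSup.2 ⟨s, hsW s⟩
  let κ : ∀ s, (Vs s).toScheme ⟶ Y := fun s => (U.ι ∣_ W s) ≫ k s
  let pU := p ∣_ U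
  have hκ : ∀ s, (pU ∣_ Vs s) ≫ κ s = (pU ⁻¹ᵁ Vs s).ι ≫ (p ⁻¹ᵁ U).ι ≫ f := fun s => by
    have hle : pU ⁻¹ᵁ Vs s ≤ (p ⁻¹ᵁ U).ι ⁻¹ᵁ (p ⁻¹ᵁ W s) := by
      rw [← Scheme.Hom.comp_preimage, ← Scheme.Hom.comp_preimage, morphismRestrict_ι]
    have e : (pU ∣_ Vs s) ≫ (U.ι ∣_ W s) = ((p ⁻¹ᵁ U).ι.resLE (p ⁻¹ᵁ W s) _ hle) ≫ (p ∣_ W s) := by
      rw [← cancel_mono (W s).ι]
      simp only [Category.assoc, morphismRestrict_ι, morphismRestrict_ι_assoc, Scheme.Hom.resLE_comp_ι_assoc, pU]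
      rw [morphismRestrict_ι_assoc, morphismRestrict_ι]
    simp only [κ]
    rw [← Category.assoc, e, Category.assoc, hk, Scheme.Hom.resLE_comp_ι_assoc]
  have hps : ∀ V : U.toScheme.Opens, Surjective (pU ∣_ V) :=
    fun V => surjective_restrict (surjective_restrict hp U) V
  have hc : ∀ i j, pullback.fst (Vs i).ι (Vs j).ι ≫ κ i = pullback.snd (Vs i).ι (Vs j).ι ≫ κ j := by
    intro i j
    let P := Vs i ⊓ Vs j
    let l := IsOpenImmersion.lift P.ι (pullback.fst (Vs i).ι (Vs j).ι ≫ (Vs i).ι) (by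
      rintro _ ⟨w, rfl⟩
      rw [Scheme.Opens.range_ι]
      refine ⟨(pullback.fst (Vs i).ι (Vs j).ι w).2, ?_⟩
      rw [pullback.condition]
      exact (pullback.snd (Vs i).ι (Vs j).ι w).2)
    have hk1 : l ≫ U.toScheme.homOfLE (inf_le_left : P ≤ Vs i) = pullback.fst (Vs i).ι (Vs j).ι := by
      rw [← cancel_mono (Vs i).ι, Category.assoc, Scheme.homOfLE_ι, IsOpenImmersion.lift_fac]
    have hk2 : l ≫ U.toScheme.homOfLE (inf_le_right : P ≤ Vs j) = pullback.snd (Vs i).ι (Vs j).ι := by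
      rw [← cancel_mono (Vs j).ι, Category.assoc, Scheme.homOfLE_ι, IsOpenImmersion.lift_fac, pullback.condition]
    rw [← hk1, ← hk2, Category.assoc, Category.assoc]
    congr 1
    refine cancel_left (hps P) (bijApp_restrict (bijApp_restrict h0 U) P) ?_
    have key : ∀ s (hs : P ≤ Vs s), (pU ∣_ P) ≫ U.toScheme.homOfLE hs ≫ κ s = (pU ⁻¹ᵁ P).ι ≫ (p ⁻¹ᵁ U).ι ≫ f := by
      intro s hs
      have hm : pU ⁻¹ᵁ P ≤ pU ⁻¹ᵁ Vs s := fun z hz => hs hz
      have e : (pU ∣_ P) ≫ U.toScheme.homOfLE hs = (p ⁻¹ᵁ U).toScheme.homOfLE hm ≫ (pU ∣_ Vs s) := by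
        rw [← cancel_mono (Vs s).ι]
        simp only [Category.assoc, Scheme.homOfLE_ι, morphismRestrict_ι, Scheme.homOfLE_ι_assoc]
      rw [← Category.assoc, e, Category.assoc, hκ, Scheme.homOfLE_ι_assoc]
    rw [key i, key j]
  let r := (U.toScheme.openCoverOfIsOpenCover Vs hcov).glueMorphisms κ hc
  have hr : pU ≫ r = (p ⁻¹ᵁ U).ι ≫ f := by
    refine ((p ⁻¹ᵁ U).toScheme.openCoverOfIsOpenCover (fun s => pU ⁻¹ᵁ Vs s) (hcov.comap _)).hom_ext _ _ fun s => ?_
    show (pU ⁻¹ᵁ Vs s).ι ≫ pU ≫ r = (pU ⁻¹ᵁ Vs s).ι ≫ (p ⁻¹ᵁ U).ι ≫ f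
    rw [← morphismRestrict_ι_assoc, ← hκ]
    exact congrArg _ (Scheme.Cover.ι_glueMorphisms (U.toScheme.openCoverOfIsOpenCover Vs hcov) κ hc s)
  refine ⟨r, ?_, hr⟩
  refine cancel_left (surjective_restrict hp U) (bijApp_restrict h0 U) ?_
  rw [← Category.assoc, hr, Category.assoc, hf, morphismRestrict_ι]

/-- The collapsed locus is closed. -/
theorem isClosed_locus (hcl : IsClosedMap p) (hp : Surjective p) [Flat p] [LocallyOfFinitePresentation p]
    (h0 : BijApp p) {q : Y ⟶ S} [IsSeparated q] (f : X ⟶ Y) (hf : f ≫ q = p) : IsClosed (locus p f) := by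
  let U : S.Opens := ⟨locus p f, isOpen_locus hcl h0 f⟩
  obtain ⟨r, -, hr⟩ := exists_section_over hcl hp h0 f hf U subset_rfl
  let a := pullback.fst p p ≫ f
  let b := pullback.snd p p ≫ f
  let l : pullback p p ⟶ pullback q q := pullback.lift a b (by
    simp only [a, b, Category.assoc, hf, pullback.condition])
  let e := pullback.fst l (pullback.diagonal q)
  have hC : IsClosed (Set.range e) := e.isClosedEmbedding.isClosed_range
  have hab : ∀ z ∈ Set.range e, a z = b z := by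
    rintro _ ⟨w, rfl⟩
    have h1 : e ≫ a = e ≫ b := by
      have hd := pullback.condition (f := l) (g := pullback.diagonal q)
      have h2 := congrArg (· ≫ pullback.fst q q) hd
      have h3 := congrArg (· ≫ pullback.snd q q) hd
      simp only [Category.assoc, l, pullback.lift_fst, pullback.lift_snd, pullback.diagonal_fst,
        pullback.diagonal_snd] at h2 h3
      exact h2.trans h3.symm
    rw [← Scheme.Hom.comp_apply, h1, Scheme.Hom.comp_apply]
  let PU := (pullback.fst p p ≫ p) ⁻¹ᵁ U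
  have hsub : (PU : Set ↥(pullback p p)) ⊆ Set.range e := by
    intro z hz
    have hl : ∀ (u : pullback p p ⟶ X), u ≫ p = pullback.fst p p ≫ p →
        PU.ι ≫ u ≫ f = ((pullback.fst p p ≫ p) ∣_ U) ≫ r := fun u hu => by
      have hle : PU ≤ u ⁻¹ᵁ (p ⁻¹ᵁ U) := le_of_eq (by rw [← Scheme.Hom.comp_preimage, hu])
      have e1 : u.resLE (p ⁻¹ᵁ U) PU hle ≫ (p ∣_ U) = (pullback.fst p p ≫ p) ∣_ U := by
        rw [← cancel_mono U.ι, Category.assoc, morphismRestrict_ι, Scheme.Hom.resLE_comp_ι_assoc, hu,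
          morphismRestrict_ι]
      rw [← e1, Category.assoc, hr, Scheme.Hom.resLE_comp_ι_assoc]
    have h1 : PU.ι ≫ l = (PU.ι ≫ a) ≫ pullback.diagonal q := by
      apply pullback.hom_ext
      · simp only [Category.assoc, l, pullback.lift_fst, pullback.diagonal_fst, Category.comp_id]
      · simp only [Category.assoc, l, pullback.lift_snd, pullback.diagonal_snd, Category.comp_id, a, b]
        rw [hl _ pullback.condition.symm, hl _ rfl]
    exact ⟨pullback.lift PU.ι (PU.ι ≫ a) h1 ⟨z, hz⟩, by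
      rw [← Scheme.Hom.comp_apply, pullback.lift_fst]; rfl⟩
  have himg : (locus p f)ᶜ = (pullback.fst p p ≫ p) '' (Set.range e)ᶜ := by
    ext s
    constructor
    · intro hs
      rw [Set.mem_compl_iff, mem_locus_iff hp] at hs
      push Not at hs
      obtain ⟨x, x', hx, hx', hne⟩ := hs
      obtain ⟨z, hz, hz'⟩ := Scheme.Pullback.exists_preimage_pullback x x' (hx.trans hx'.symm)
      refine ⟨z, fun hzC => hne ?_, by rw [Scheme.Hom.comp_apply, hz, hx]⟩
      have := hab z hzC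
      simpa only [a, b, Scheme.Hom.comp_apply, hz, hz'] using this
    · rintro ⟨z, hz, rfl⟩ hs
      exact hz (hsub hs)
  rw [← isOpen_compl_iff, himg]
  exact (pullback.fst p p ≫ p).isOpenMap _ hC.isOpen_compl

/-- A collapsed fibre over a connected base forces a factorisation through a section. -/
theorem exists_section (hcl : IsClosedMap p) (hp : Surjective p) [Flat p] [LocallyOfFinitePresentation p]
    [ConnectedSpace S] (h0 : BijApp p) {q : Y ⟶ S} [IsSeparated q] (f : X ⟶ Y) (hf : f ≫ q = p) {s : S}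
    (hs : s ∈ locus p f) : ∃ t : S ⟶ Y, t ≫ q = 𝟙 S ∧ f = p ≫ t := by
  have huniv : locus p f = Set.univ :=
    IsClopen.eq_univ ⟨isClosed_locus hcl hp h0 f hf, isOpen_locus hcl h0 f⟩ ⟨s, hs⟩
  obtain ⟨r, hrq, hr⟩ := exists_section_over hcl hp h0 f hf ⊤ (by rw [huniv]; exact Set.subset_univ _)
  refine ⟨S.topIso.inv ≫ r, by rw [Category.assoc, hrq]; exact S.topIso.inv_hom_id, ?_⟩
  have htop : X.topIso.inv ≫ (p ∣_ ⊤) = p ≫ S.topIso.inv := by
    rw [← cancel_mono S.topIso.hom, Category.assoc, Category.assoc, Iso.inv_hom_id, Category.comp_id]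
    show X.topIso.inv ≫ (p ∣_ ⊤) ≫ (⊤ : S.Opens).ι = p
    rw [morphismRestrict_ι]
    exact X.topIso.inv_hom_id_assoc p
  rw [← Category.assoc, ← htop, Category.assoc, hr]
  exact (X.topIso.inv_hom_id_assoc f).symm

end Groth.Agent.RigidLib
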