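import Groth.Prelude.Def_ega3
import Groth.Agent.RigidLib.Basic
import Groth.Agent.BCLib.SteinNbhd
import Groth.Agent.SchDesc.QAffAlg

/-!
# Proper flat morphisms with only constant functions on the fibres
-/

set_option autoImplicit false
set_option backward.isDefEq.respectTransparency false
set_option linter.style.haveILetI false

universe u

open CategoryTheory CategoryTheory.Limits AlgebraicGeometry TopologicalSpace Opposite

noncomputable section

namespace Groth.Agent.RigidLib

variable {X S : Scheme.{u}} {p : X ⟶ S}

theorem app_res (p : X ⟶ S) {V W : S.Opens} (e : W ≤ V) (a : Γ(S, V)) :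
    p.app W (S.presheaf.map (homOfLE e).op a) = X.presheaf.map (homOfLE (p.preimage_mono e)).op (p.app V a) :=
  congr($(p.naturality (homOfLE e).op).hom a)

/-- `BijApp` is local on the base. -/
theorem bijApp_of_locally (h : ∀ s : S, ∃ U : S.Opens, s ∈ U ∧ ∀ V ≤ U, Function.Bijective (p.app V).hom) :
    BijApp p := by
  choose U hU hb using h
  intro V
  have hcov : V ≤ ⨆ s, V ⊓ U s := fun x hx => Opens.mem_iSup.2 ⟨x, hx, hU x⟩
  have hcov' : p ⁻¹ᵁ V ≤ ⨆ s, p ⁻¹ᵁ (V ⊓ U s) := fun x hx => Opens.mem_iSup.2 ⟨p x, hx, hU _⟩
  refine ⟨fun a b hab => S.sheaf.eq_of_locally_eq' _ V (fun s => homOfLE inf_le_left) hcov a b fun s =>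
    (hb s _ inf_le_right).1 ?_, fun b => ?_⟩
  · show p.app _ (S.presheaf.map (homOfLE _).op a) = p.app _ (S.presheaf.map (homOfLE _).op b)
    rw [app_res, app_res, hab]
  choose a ha using fun s => (hb s (V ⊓ U s) inf_le_right).2
    (X.presheaf.map (homOfLE (p.preimage_mono inf_le_left)).op b)
  have hcomp : TopCat.Presheaf.IsCompatible S.presheaf (fun s => V ⊓ U s) a := fun i j => by
    refine (hb i _ (inf_le_left.trans inf_le_right)).1 ?_
    show p.app _ (S.presheaf.map (homOfLE inf_le_left).op (a i)) = p.app _ (S.presheaf.map (homOfLE inf_le_right).op (a j))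
    rw [app_res, app_res, ha, ha, ← ConcreteCategory.comp_apply, ← ConcreteCategory.comp_apply, ← Functor.map_comp,
      ← Functor.map_comp]
    rfl
  obtain ⟨c, hc, -⟩ := S.sheaf.existsUnique_gluing' _ V (fun s => homOfLE inf_le_left) hcov a hcomp
  refine ⟨c, X.sheaf.eq_of_locally_eq' _ (p ⁻¹ᵁ V) (fun s => homOfLE (p.preimage_mono inf_le_left)) hcov' _ _ fun s => ?_⟩
  show X.presheaf.map (homOfLE _).op (p.app V c) = X.presheaf.map (homOfLE _).op b
  rw [← app_res p inf_le_left, ← ha s]
  exact congrArg _ (hc s)

/-- The fibres of a proper flat morphism carrying only constant functions give `BijApp`. -/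
theorem bijApp_of_fibres [IsProper p] [Flat p] [IsLocallyNoetherian S]
    (h : ∀ s : S, Function.Bijective (algebraMap (S.residueField s) Γ(p.fiber s, ⊤))) : BijApp p :=
  bijApp_of_locally fun s => BCLib.exists_nhd_bijective_app p s (h s)

/-- Constant functions on all fibres force surjectivity. -/
theorem surjective_of_fibres (h : ∀ s : S, Function.Bijective (algebraMap (S.residueField s) Γ(p.fiber s, ⊤))) :
    Surjective p := ⟨fun s => by
  by_contra hs
  push Not at hs
  haveI : IsEmpty ↥(p.fiber s) := ⟨fun z => hs (p.fiberι s z)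
    ((Set.ext_iff.1 (p.range_fiberι s) _).1 ⟨z, rfl⟩)⟩
  haveI : Subsingleton Γ(p.fiber s, ⊤) := inferInstance
  exact one_ne_zero ((h s).1 (Subsingleton.elim _ (algebraMap (S.residueField s) Γ(p.fiber s, ⊤) 0)))⟩

/-- The algebra map of a fibre in terms of the second projection. -/
theorem bijective_fibre_of_snd {s : S} (h : Function.Bijective (Limits.pullback.snd p (S.fromSpecResidueField s)).appTop) :
    Function.Bijective (algebraMap (S.residueField s) Γ(p.fiber s, ⊤)) :=
  h.comp (ConcreteCategory.bijective_of_isIso (Scheme.ΓSpecIso (S.residueField s)).inv)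

/-- Global functions commute with flat base change of affine schemes. -/
theorem bijective_appTop_of_isPullback {P Y T Z : Scheme.{u}} {g : P ⟶ Y} {q : P ⟶ T} {r : Y ⟶ Z} {j : T ⟶ Z}
    (H : IsPullback g q r j) [Flat j] [IsAffine Z] [IsAffine T] [CompactSpace Y] [QuasiSeparatedSpace Y]
    (h : Function.Bijective r.appTop.hom) : Function.Bijective q.appTop.hom := by
  haveI : IsIso r.appTop := (ConcreteCategory.isIso_iff_bijective _).2 h
  haveI : IsIso q.appTop := (SchDesc.isPushout_appTop H).isIso_inr_of_isIso
  exact ConcreteCategory.bijective_of_isIso q.appTop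

/-- Constant functions on the fibres pass to every base change. -/
theorem fibres_of_isPullback [QuasiCompact p] [QuasiSeparated p] {P T : Scheme.{u}} {g : P ⟶ X} {q : P ⟶ T} {j : T ⟶ S}
    (H : IsPullback g q p j) (t : T) (h : Function.Bijective (algebraMap (S.residueField (j t)) Γ(p.fiber (j t), ⊤))) :
    Function.Bijective (algebraMap (T.residueField t) Γ(q.fiber t, ⊤)) := by
  have hp : Function.Bijective (p.fiberToSpecResidueField (j t)).appTop.hom :=
    (Function.Bijective.of_comp_iff _
      (ConcreteCategory.bijective_of_isIso (Scheme.ΓSpecIso (S.residueField (j t))).inv)).1 h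
  haveI : Flat (Spec.map (j.residueFieldMap t)) := by
    rw [HasRingHomProperty.Spec_iff (P := @Flat)]
    algebraize [(j.residueFieldMap t).hom]
    exact inferInstanceAs (Module.Flat (S.residueField (j t)) (T.residueField t))
  haveI : QuasiSeparatedSpace ↥(p.fiber (j t)) := by
    haveI : QuasiSeparated (p.fiberToSpecResidueField (j t)) :=
      MorphismProperty.pullback_snd p (S.fromSpecResidueField (j t)) inferInstance
    exact quasiSeparatedSpace_of_quasiSeparated (p.fiberToSpecResidueField (j t))
  exact (bijective_appTop_of_isPullback (Y := p.fiber (j t)) (r := p.fiberToSpecResidueField (j t))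
    (isPullback_fiberToSpecResidueField_of_isPullback H t) hp).comp
    (ConcreteCategory.bijective_of_isIso (Scheme.ΓSpecIso (T.residueField t)).inv)

end Groth.Agent.RigidLib
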