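import Groth.Agent.RigidLib.Section
import Groth.Agent.RigidLib.Proper

/-!
# Morphisms collapsing every fibre factor through a section
-/

set_option autoImplicit false
set_option backward.isDefEq.respectTransparency false
set_option linter.style.haveILetI false

universe u

open CategoryTheory CategoryTheory.Limits AlgebraicGeometry

noncomputable section

namespace Groth.Agent.RigidLib

variable {X S Y : Scheme.{u}} {p : X ⟶ S}

/-- If every fibre is collapsed, the morphism factors through a section. -/
theorem exists_section_of_univ (hcl : IsClosedMap p) (hp : Surjective p) (h0 : BijApp p) {q : Y ⟶ S} (f : X ⟶ Y)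
    (hf : f ≫ q = p) (huniv : locus p f = Set.univ) : ∃ t : S ⟶ Y, t ≫ q = 𝟙 S ∧ f = p ≫ t := by
  obtain ⟨r, hrq, hr⟩ := exists_section_over hcl hp h0 f hf ⊤ (by rw [huniv]; exact Set.subset_univ _)
  refine ⟨S.topIso.inv ≫ r, by rw [Category.assoc, hrq]; exact S.topIso.inv_hom_id, ?_⟩
  have htop : X.topIso.inv ≫ (p ∣_ ⊤) = p ≫ S.topIso.inv := by
    rw [← cancel_mono S.topIso.hom, Category.assoc, Category.assoc, Iso.inv_hom_id, Category.comp_id]
    show X.topIso.inv ≫ (p ∣_ ⊤) ≫ (⊤ : S.Opens).ι = p
    rw [morphismRestrict_ι]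
    exact X.topIso.inv_hom_id_assoc p
  rw [← Category.assoc, ← htop, Category.assoc, hr]
  exact (X.topIso.inv_hom_id_assoc f).symm

end Groth.Agent.RigidLib
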