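import Groth.Agent.RigidLib.AnyBase
import Groth.Agent.RigidLib.Univ
import Groth.Agent.PicTrivLib.Const
import Mathlib.CategoryTheory.Monoidal.Cartesian.Over
import Mathlib.CategoryTheory.Monoidal.Cartesian.Grp

/-!
# Rigidity for group schemes over an arbitrary base
-/

set_option autoImplicit false
set_option backward.isDefEq.respectTransparency false
set_option backward.defeqAttrib.useBackward true
set_option linter.style.haveILetI false
set_option linter.unusedSectionVars false

universe u

open CategoryTheory CategoryTheory.Limits MonoidalCategory CartesianMonoidalCategory MonObj GrpObj AlgebraicGeometry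

noncomputable section

namespace Groth.Agent.RigidLib

theorem bijApp_of_geom {X S : Scheme.{u}} (p : X ⟶ S) [IsProper p] [Flat p] [LocallyOfFinitePresentation p]
    [GeometricallyConnected p] [GeometricallyReduced p] : BijApp p :=
  bijApp_of_fibres_any p (PicTrivLib.bijective_fiber p)

theorem surjective_of_geom {X S : Scheme.{u}} (p : X ⟶ S) [IsProper p]
    [GeometricallyConnected p] [GeometricallyReduced p] : Surjective p :=
  surjective_of_fibres (PicTrivLib.bijective_fiber p)

/-- A set which is open and closed and meets every fibre of a morphism with connected fibres is everything. -/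
theorem eq_univ_of_section {X S : Scheme.{u}} (p : X ⟶ S) [GeometricallyConnected p] (e : S ⟶ X) (he : e ≫ p = 𝟙 S)
    {A : Set X} (hA : IsClopen A) (hmem : ∀ s, e s ∈ A) : A = Set.univ := by
  refine Set.eq_univ_of_forall fun x => ?_
  have hs : p (e (p x)) = p x := by rw [← Scheme.Hom.comp_apply, he]; rfl
  haveI : ConnectedSpace ↥(p.fiber (p x)) := inferInstance
  have hc : _root_.IsPreconnected (p ⁻¹' {p x}) := by
    rw [← Scheme.Hom.range_fiberι]
    exact isPreconnected_range (p.fiberι (p x)).continuous
  exact hc.subset_isClopen hA ⟨e (p x), hs, hmem _⟩ rfl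

variable {S : Scheme.{u}} {X Y : Over S}

/-- A map of group schemes preserving the units is a homomorphism. -/
theorem isMonHom_of_one [GrpObj X] [IsProper X.hom] [Flat X.hom] [LocallyOfFinitePresentation X.hom]
    [GeometricallyReduced X.hom] [GeometricallyConnected X.hom] [GrpObj Y] [IsSeparated Y.hom]
    (f : X ⟶ Y) (hf : η[X] ≫ f = η[Y]) : IsMonHom f := by
  let p : pullback X.hom X.hom ⟶ X.left := pullback.fst X.hom X.hom
  haveI : IsProper p := MorphismProperty.pullback_fst _ _ inferInstance
  haveI : Flat p := MorphismProperty.pullback_fst _ _ inferInstance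
  haveI : LocallyOfFinitePresentation p := MorphismProperty.pullback_fst _ _ inferInstance
  haveI : GeometricallyReduced p := MorphismProperty.pullback_fst _ _ inferInstance
  haveI : GeometricallyConnected p := MorphismProperty.pullback_fst _ _ inferInstance
  haveI : IsSeparated (pullback.snd Y.hom X.hom) := MorphismProperty.pullback_snd _ _ inferInstance
  have h0 := bijApp_of_geom p
  have hp := surjective_of_geom p
  let F : X ⊗ X ⟶ Y := (μ[X] ≫ f) * ((fst X X ≫ f) * (snd X X ≫ f))⁻¹
  let F' : pullback X.hom X.hom ⟶ pullback Y.hom X.hom := pullback.lift F.left p (by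
    refine (Over.w F).trans ?_
    rfl)
  have hF' : F' ≫ pullback.snd Y.hom X.hom = p := pullback.lift_snd _ _ _
  let j : X ⟶ X ⊗ X := lift (toUnit X ≫ η[X]) (𝟙 X)
  have hjF : j ≫ F = toUnit X ≫ η[Y] := by
    have e1 : j ≫ μ[X] = 𝟙 X := by
      rw [← Hom.mul_def, ← Hom.one_def, _root_.one_mul]
    have e2 : (toUnit X ≫ η[X]) ≫ f = 1 := by rw [Category.assoc, hf, Hom.one_def]
    rw [MonObj.comp_mul, GrpObj.comp_inv, MonObj.comp_mul, ← Category.assoc, e1, ← Category.assoc, lift_fst,
      ← Category.assoc, lift_snd, Category.id_comp, e2, _root_.one_mul, mul_inv_cancel, Hom.one_def]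
  have hcomp : j.left ≫ F' = X.hom ≫ pullback.lift η[Y].left η[X].left
      ((Over.w η[Y]).trans (Over.w η[X]).symm) := by
    apply pullback.hom_ext
    · rw [Category.assoc, pullback.lift_fst, Category.assoc, pullback.lift_fst]
      exact congrArg Over.Hom.left hjF
    · rw [Category.assoc, pullback.lift_snd, Category.assoc, pullback.lift_snd]
      exact congrArg Over.Hom.left (lift_fst (toUnit X ≫ η[X]) (𝟙 X))
  have hηX : η[X].left ≫ X.hom = 𝟙 S := Over.w η[X]
  have hmem : ∀ s, η[X].left s ∈ locus p F' := by
    intro s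
    refine ⟨pullback.lift η[Y].left η[X].left ((Over.w η[Y]).trans (Over.w η[X]).symm) s, fun z hz => ?_⟩
    obtain ⟨v, hv1, hv2⟩ := Scheme.Pullback.exists_preimage_pullback z s hz
    have hfac : pullback.fst p η[X].left = (pullback.fst p η[X].left ≫ pullback.snd X.hom X.hom) ≫ j.left := by
      apply pullback.hom_ext
      · rw [Category.assoc]
        rw [show j.left ≫ pullback.fst X.hom X.hom = X.hom ≫ η[X].left from
          congrArg Over.Hom.left (lift_fst (toUnit X ≫ η[X]) (𝟙 X))]
        rw [Category.assoc, ← pullback.condition_assoc (f := X.hom) (g := X.hom)]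
        show pullback.fst p η[X].left ≫ p = pullback.fst p η[X].left ≫ p ≫ X.hom ≫ η[X].left
        rw [pullback.condition_assoc (f := p) (g := η[X].left), reassoc_of% hηX]
        exact pullback.condition
      · rw [Category.assoc, Category.assoc]
        rw [show j.left ≫ pullback.snd X.hom X.hom = 𝟙 X.left from
          congrArg Over.Hom.left (lift_snd (toUnit X ≫ η[X]) (𝟙 X))]
        rw [Category.comp_id]
    have hs : X.hom ((pullback.fst p η[X].left ≫ pullback.snd X.hom X.hom) v) = s := by
      rw [← Scheme.Hom.comp_apply, Category.assoc, ← pullback.condition (f := X.hom) (g := X.hom)]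
      show (pullback.fst p η[X].left ≫ p ≫ X.hom) v = s
      rw [pullback.condition_assoc (f := p) (g := η[X].left), hηX, Scheme.Hom.comp_apply, hv2]
      rfl
    rw [← hv1, hfac, Scheme.Hom.comp_apply]
    refine (Scheme.Hom.comp_apply j.left F' _).symm.trans ?_
    exact ((congrArg (fun a : X.left ⟶ _ => a _) hcomp).trans (Scheme.Hom.comp_apply _ _ _)).trans (congrArg _ hs)
  have huniv : locus p F' = Set.univ := eq_univ_of_section X.hom η[X].left hηX
    ⟨isClosed_locus p.isClosedMap hp h0 F' hF', isOpen_locus p.isClosedMap h0 F'⟩ hmem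
  obtain ⟨t, ht, ht'⟩ := exists_section_of_univ p.isClosedMap hp h0 F' hF' huniv
  let τ : X ⟶ Y := Over.homMk (t ≫ pullback.fst Y.hom X.hom) (by
    rw [Category.assoc, pullback.condition, reassoc_of% ht])
  have hFτ : F = fst X X ≫ τ := by
    apply Over.OverMorphism.ext
    show F.left = p ≫ t ≫ pullback.fst Y.hom X.hom
    rw [← Category.assoc, ← ht', pullback.lift_fst]
  have hτ : τ = 1 := by
    have h : lift (𝟙 X) (toUnit X ≫ η[X]) ≫ F = lift (𝟙 X) (toUnit X ≫ η[X]) ≫ fst X X ≫ τ := by rw [hFτ]
    rw [← Category.assoc, lift_fst, Category.id_comp] at h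
    rw [← h, MonObj.comp_mul, GrpObj.comp_inv, MonObj.comp_mul, ← Category.assoc, ← Category.assoc, lift_fst,
      ← Category.assoc, lift_snd, Category.id_comp, ← Hom.mul_def, ← Hom.one_def, _root_.mul_one]
    have e2 : (1 : X ⟶ X) ≫ f = 1 := by rw [Hom.one_def, Category.assoc, hf, Hom.one_def]
    rw [e2, _root_.mul_one, Category.id_comp, mul_inv_cancel]
  rw [hτ, MonObj.comp_one] at hFτ
  have h2 : μ[X] ≫ f = (fst X X ≫ f) * (snd X X ≫ f) := mul_inv_eq_one.1 hFτ
  exact { one_hom := hf, mul_hom := by rw [h2, Hom.mul_def]; congr 1 }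

/-- An abelian scheme is commutative. -/
theorem isCommMonObj_of_geom [GrpObj X] [IsProper X.hom] [Flat X.hom] [LocallyOfFinitePresentation X.hom]
    [GeometricallyReduced X.hom] [GeometricallyConnected X.hom] : IsCommMonObj X := by
  haveI : IsMonHom ι[X] := isMonHom_of_one ι[X] (by
    have h : (η[X])⁻¹ = η[X] ≫ ι[X] := Hom.inv_def _
    rw [← h]
    have h1 : η[X] = (1 : 𝟙_ (Over S) ⟶ X) := by rw [Hom.one_def, toUnit_unit, Category.id_comp]
    rw [h1, inv_one])
  have hinv : (fst X X * snd X X)⁻¹ = (fst X X)⁻¹ * (snd X X)⁻¹ := by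
    rw [Hom.inv_def, Hom.inv_def, Hom.inv_def]
    exact MonObj.mul_comp _ _ _
  have hc : snd X X * fst X X = fst X X * snd X X := by
    have := congrArg (·⁻¹) hinv
    simpa using this.symm
  refine ⟨?_⟩
  calc (β_ X X).hom ≫ μ[X] = lift (snd X X) (fst X X) ≫ μ[X] := by
        congr 1
    _ = μ[X] := by
        rw [← Hom.mul_def, hc, Hom.mul_def, lift_fst_snd, Category.id_comp]

/-- The group law of an abelian scheme is determined by the unit. -/
theorem grpObj_eq_of_one [IsProper X.hom] [Flat X.hom] [LocallyOfFinitePresentation X.hom]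
    [GeometricallyReduced X.hom] [GeometricallyConnected X.hom] (h₁ h₂ : GrpObj X) (he : h₁.one = h₂.one) :
    h₁ = h₂ := by
  have h := @isMonHom_of_one S X X h₁ _ _ _ _ _ h₂ inferInstance (𝟙 X) (by
    rw [Category.comp_id]; exact he)
  have hm := h.mul_hom
  apply GrpObj.ext
  apply MonObj.ext
  simpa using hm

end Groth.Agent.RigidLib
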