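import Groth.Agent.OmegaUnivLib.Basic
import Groth.Agent.LocHilbGlueLib.Scheme

/-! A derivation is determined by compatible values on a basis of opens. -/

set_option autoImplicit false
set_option backward.isDefEq.respectTransparency false
set_option backward.isDefEq.respectTransparency.types false
set_option linter.style.haveILetI false

universe u

open CategoryTheory CategoryTheory.Limits AlgebraicGeometry TopologicalSpace Opposite ArtFun ArtFun.Art

noncomputable section

namespace Groth.Agent.RigidLib

variable {k : Type u} [Field k] {X : Scheme.{u}} {x : X ⟶ specPt k} {ι : Type u} (W : ι → X.Opens)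
  (hW : Opens.IsBasis (Set.range W)) (δ : ∀ i, Γ(X, W i) →+ Γ(X, W i))
  (hnat : ∀ i j (h : W j ≤ W i) (b : Γ(X, W i)),
    δ j (X.presheaf.map (homOfLE h).op b) = X.presheaf.map (homOfLE h).op (δ i b))

/-- The structure sheaf as a sheaf of abelian groups. -/
abbrev oAb : TopCat.Sheaf Ab.{u} X.carrier :=
  ⟨(Coh.structureModule X).presheaf, (Coh.structureModule X).isSheaf⟩

/-- The values on the basis, as a natural transformation. -/
def etaOf : (inducedFunctor W).op ⋙ (Coh.structureModule X).presheaf ⟶
    (inducedFunctor W).op ⋙ (oAb (X := X)).1 where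
  app i := AddCommGrpCat.ofHom (δ i.unop)
  naturality i j f := AddCommGrpCat.hom_ext (AddMonoidHom.ext fun b => hnat i.unop j.unop (leOfHom f.unop.hom) b)

/-- The values on every open. -/
def extend : (Coh.structureModule X).presheaf ⟶ (oAb (X := X)).1 :=
  TopCat.Sheaf.restrictHomEquivHom (Coh.structureModule X).presheaf oAb hW (etaOf W δ hnat)

/-- The values on an open. -/
def extendApp (U : X.Opens) : Γ(X, U) →+ Γ(X, U) := ((extend W hW δ hnat).app (op U)).hom

theorem extendApp_basis (i : ι) (b : Γ(X, W i)) : extendApp W hW δ hnat (W i) b = δ i b :=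
  congr($(TopCat.Sheaf.extend_hom_app (Coh.structureModule X).presheaf oAb hW (etaOf W δ hnat) i) b)

theorem extendApp_res {U U' : X.Opens} (h : U' ≤ U) (b : Γ(X, U)) :
    extendApp W hW δ hnat U' (X.presheaf.map (homOfLE h).op b) =
      X.presheaf.map (homOfLE h).op (extendApp W hW δ hnat U b) :=
  congr($((extend W hW δ hnat).naturality (homOfLE h).op) b)

theorem eq_of_basis (U : X.Opens) {s t : Γ(X, U)}
    (h : ∀ i (hi : W i ≤ U), X.presheaf.map (homOfLE hi).op s = X.presheaf.map (homOfLE hi).op t)
    (hW : Opens.IsBasis (Set.range W)) : s = t := by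
  refine TopCat.Sheaf.eq_of_locally_eq' X.sheaf (fun i : {i // W i ≤ U} => W i.1) U
    (fun i => homOfLE i.2) (fun p hp => ?_) _ _ fun i => h i.1 i.2
  obtain ⟨_, ⟨i, rfl⟩, hpi, hiU⟩ := Opens.isBasis_iff_nbhd.mp hW hp
  exact Opens.mem_iSup.mpr ⟨⟨i, hiU⟩, hpi⟩

include hW hnat in
theorem exists_der (hmul : ∀ i a b, δ i (a * b) = a * δ i b + b * δ i a)
    (hconst : ∀ i a, δ i (LocHilbGlueLib.algR x (W i) a) = 0) :
    ∃ D : OmegaSh.Der x (Coh.structureModule X),
      ∀ i (b : Γ(X, W i)), (D.app (W i) b : Γ(X, W i)) = δ i b := by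
  refine ⟨OmegaUnivLib.mkDer (F := Coh.structureModule X) (fun U => extendApp W hW δ hnat U)
    (fun U a b => ?_) (fun {U V} i s => extendApp_res W hW δ hnat i.le s) (fun V c => ?_),
    fun i b => extendApp_basis W hW δ hnat i b⟩
  · show extendApp W hW δ hnat U (a * b) =
      (a * extendApp W hW δ hnat U b + b * extendApp W hW δ hnat U a : Γ(X, U))
    refine eq_of_basis W U (fun i hi => ?_) hW
    simp only [map_add, map_mul, ← extendApp_res, extendApp_basis, hmul]
  · show extendApp W hW δ hnat (x ⁻¹ᵁ V) (x.app V c) = (0 : Γ(X, x ⁻¹ᵁ V))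
    refine eq_of_basis W _ (fun i hi => ?_) hW
    rw [← extendApp_res, extendApp_basis, map_zero]
    by_cases hV : V = ⊤
    · subst hV
      obtain ⟨a, rfl⟩ : ∃ a, (Scheme.ΓSpecIso (CommRingCat.of k)).inv a = c :=
        (ConcreteCategory.bijective_of_isIso (Scheme.ΓSpecIso (CommRingCat.of k)).inv).2 c
      exact hconst i a
    · have hV' : V = ⊥ := by
        by_contra hne
        obtain ⟨p, hp⟩ : ∃ p, p ∈ V := by
          by_contra hh
          exact hne (Opens.ext (Set.eq_empty_of_forall_notMem fun p hp => hh ⟨p, hp⟩))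
        exact hV (top_unique fun q _ => (@Subsingleton.elim _
          (inferInstanceAs (Subsingleton (PrimeSpectrum k))) p q) ▸ hp)
      subst hV'
      have : W i = ⊥ := le_bot_iff.mp hi
      haveI : Subsingleton Γ(X, W i) := by rw [this]; infer_instance
      exact Subsingleton.elim _ _

end Groth.Agent.RigidLib
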