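import Groth.Agent.RigidLib.Alg
import Groth.Agent.RigidLib.DerExt
import Groth.Agent.OmegaUnivLib.Univ
import Groth.Agent.DefSchLib.Affine

/-! Deformations of a scheme without vector fields have no non-trivial automorphisms. -/

set_option autoImplicit false
set_option backward.isDefEq.respectTransparency false
set_option backward.isDefEq.respectTransparency.types false
set_option linter.style.haveILetI false

universe u

open CategoryTheory CategoryTheory.Limits AlgebraicGeometry TopologicalSpace Opposite ArtFun ArtFun.Art IsLocalRing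

noncomputable section

namespace Groth.Agent.RigidLib

variable {Λ k : Type u} [CommRing Λ] [Field k] [Algebra Λ k] {X : Scheme.{u}} {x : X ⟶ specPt k}

section General

variable {A : Art Λ k} (ξ : DefSch X x A)

/-- The constants in the functions on an open of the total space. -/
def strU (U : ξ.total.Opens) : CommRingCat.of A ⟶ Γ(ξ.total, U) :=
  (Scheme.ΓSpecIso (CommRingCat.of A)).inv ≫ ξ.f.appLE ⊤ U le_top

theorem isClosedImmersion_i : IsClosedImmersion ξ.i := by
  haveI : IsClosedImmersion (specRes A) := IsClosedImmersion.spec_of_surjective _ A.res_surjective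
  exact MorphismProperty.of_isPullback (P := @IsClosedImmersion) ξ.isPullback.flip inferInstance

theorem surjective_i : Surjective ξ.i := by
  haveI : Surjective (specRes A) := ⟨fun z => ⟨closedPoint k, @Subsingleton.elim _
    (inferInstanceAs (Subsingleton (PrimeSpectrum A))) _ _⟩⟩
  exact MorphismProperty.of_isPullback (P := @Surjective) ξ.isPullback.flip inferInstance

theorem le_of_preimage_le {U V : ξ.total.Opens} (h : ξ.i ⁻¹ᵁ V ≤ ξ.i ⁻¹ᵁ U) : V ≤ U := fun z hz => by
  obtain ⟨w, rfl⟩ := (surjective_i ξ).surj z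
  exact h hz

theorem isBasis_preimage :
    Opens.IsBasis (Set.range fun U : ξ.total.affineOpens => ξ.i ⁻¹ᵁ (U : ξ.total.Opens)) := by
  haveI := isClosedImmersion_i ξ
  rw [Opens.isBasis_iff_nbhd]
  intro O w hw
  obtain ⟨O', hO', hOO'⟩ := ξ.i.isClosedEmbedding.isInducing.isOpen_iff.mp O.2
  obtain ⟨_, ⟨U, hU, rfl⟩, hwU, hUO⟩ := ξ.total.isBasis_affineOpens.exists_subset_of_mem_open
    ((Set.ext_iff.mp hOO' w).mpr hw) hO'
  refine ⟨_, ⟨⟨U, hU⟩, rfl⟩, hwU, fun v hv => ?_⟩
  exact (Set.ext_iff.mp hOO' v).mp (hUO hv)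

theorem iso_apply (e : ξ.Iso ξ) (z : ξ.total) : e.iso.hom z = z := by
  obtain ⟨w, rfl⟩ := (surjective_i ξ).surj z
  rw [← Scheme.Hom.comp_apply, e.i_hom]

theorem le_preimage (e : ξ.Iso ξ) (U : ξ.total.Opens) : U ≤ e.iso.hom ⁻¹ᵁ U := fun z hz => by
  show e.iso.hom z ∈ U
  rwa [iso_apply]

/-- The automorphism on the functions on an open. -/
def sigU (e : ξ.Iso ξ) (U : ξ.total.Opens) : Γ(ξ.total, U) ⟶ Γ(ξ.total, U) :=
  e.iso.hom.appLE U U (le_preimage ξ e U)

theorem isPushout_str {U : ξ.total.Opens} (hU : IsAffineOpen U) :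
    IsPushout (strU ξ U) (CommRingCat.ofHom A.res.toRingHom) (ξ.i.app U)
      (LocHilbGlueLib.algR x (ξ.i ⁻¹ᵁ U)) := by
  refine (Groth.Agent.FibreVanishQC.isPushout_app ξ.isPullback hU).of_iso (Scheme.ΓSpecIso (CommRingCat.of A))
    (Iso.refl _) (Scheme.ΓSpecIso (CommRingCat.of k)) (Iso.refl _) ?_ ?_ ?_ ?_
  · simp [strU, Scheme.Hom.appLE, Scheme.Hom.appTop]
  · exact Scheme.ΓSpecIso_naturality _
  · simp
  · simp [LocHilbGlueLib.algR, Scheme.Hom.appLE, Scheme.Hom.appTop]

theorem lift (e : ξ.Iso ξ) {U : ξ.total.Opens} (hU : IsAffineOpen U) :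
    Lift (strU ξ U).hom (ξ.i.app U).hom (sigU ξ e U).hom := by
  obtain ⟨h1, h2⟩ := DefSchLib.surjective_ker_of_isPushout (isPushout_str ξ hU) A.res_surjective
  exact
    { flat := RingHom.Flat.comp (RingHom.Flat.of_bijective
          (ConcreteCategory.bijective_of_isIso (Scheme.ΓSpecIso (CommRingCat.of A)).inv))
          (ξ.f.flat_appLE (isAffineOpen_top _) hU le_top)
      nilp := (isArtinianRing_iff_isNilpotent_maximalIdeal _).mp inferInstance
      surj := h1
      ker := h2.trans (congrArg _ (DefSchLib.RingDef.ker_res A))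
      σ_str := fun a => by
        have e1 : strU ξ U ≫ sigU ξ e U = strU ξ U := by
          simp only [strU, sigU, Category.assoc, Scheme.Hom.appLE_comp_appLE, e.hom_f]
        exact congrArg (fun g : CommRingCat.of A ⟶ Γ(ξ.total, U) => g a) e1
      π_σ := fun r => by
        have e1 : sigU ξ e U ≫ ξ.i.app U = ξ.i.app U := by
          simp only [sigU, Scheme.Hom.app_eq_appLE, Scheme.Hom.appLE_comp_appLE, e.i_hom]
        exact congrArg (fun g : Γ(ξ.total, U) ⟶ Γ(X, ξ.i ⁻¹ᵁ U) => g r) e1 }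

/-- The automorphism is the identity modulo `J`. -/
def IdMod (e : ξ.Iso ξ) (J : Ideal A) : Prop :=
  ∀ U : ξ.total.affineOpens, ∀ r : Γ(ξ.total, U.1), sigU ξ e U.1 r - r ∈ J.map (strU ξ U.1).hom

theorem idMod_maximalIdeal (e : ξ.Iso ξ) : IdMod ξ e (maximalIdeal A) := by
  intro U r
  rw [← (lift ξ e U.2).ker, RingHom.mem_ker, map_sub, (lift ξ e U.2).π_σ, sub_self]

theorem eq_id_of_idMod_bot {e : ξ.Iso ξ} (h : IdMod ξ e ⊥) : e.iso.hom = 𝟙 ξ.total := by
  refine (ξ.total.openCoverOfIsOpenCover (fun U : ξ.total.affineOpens => (U : ξ.total.Opens))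
    (iSup_affineOpens_eq_top ξ.total)).hom_ext _ _ fun U => ?_
  show U.1.ι ≫ e.iso.hom = U.1.ι ≫ 𝟙 ξ.total
  have hσ : sigU ξ e U.1 = 𝟙 _ := CommRingCat.hom_ext (RingHom.ext fun r => sub_eq_zero.mp (by
    have h1 := h U r
    rwa [Ideal.map_bot, Ideal.mem_bot] at h1))
  have h1 : U.2.fromSpec ≫ e.iso.hom = U.2.fromSpec := by
    rw [← IsAffineOpen.SpecMap_appLE_fromSpec e.iso.hom U.2 U.2 (le_preimage ξ e U.1)]
    show Spec.map (sigU ξ e U.1) ≫ _ = _
    rw [hσ, Spec.map_id, Category.id_comp]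
  rw [Category.comp_id, ← cancel_epi U.2.isoSpec.inv, ← Category.assoc]
  exact h1

theorem map_le (U V : ξ.total.Opens) (h : V ≤ U) :
    (ξ.total.presheaf.map (homOfLE h).op).hom.comp (strU ξ U).hom = (strU ξ V).hom := by
  have e1 : strU ξ U ≫ ξ.total.presheaf.map (homOfLE h).op = strU ξ V := by simp [strU, Scheme.Hom.appLE_map]
  exact congrArg CommRingCat.Hom.hom e1

end General

variable {A : Art k k} (ξ : DefSch X x A) [QuasiSeparated x]

theorem idMod_step (hX : Subsingleton (Omega.sheaf x ⟶ Coh.structureModule X)) (e : ξ.Iso ξ) {J J' : Ideal A}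
    {t : A} (ht : t ∉ J') (hJ : J ≤ J' ⊔ Ideal.span {t}) (hmJ : maximalIdeal A * J ≤ J')
    (hmt : maximalIdeal A * Ideal.span {t} ≤ J') (h : IdMod ξ e J) : IdMod ξ e J' := by
  have hex := fun (U : ξ.total.affineOpens) => (lift ξ e U.2).existsUnique_lead (t := t) hJ hmJ ht (h U)
  choose w hw using fun (U : ξ.total.affineOpens) b => (hex U b).exists
  let W : ξ.total.affineOpens → X.Opens := fun U => ξ.i ⁻¹ᵁ (U : ξ.total.Opens)
  let δ : ∀ U, Γ(X, W U) →+ Γ(X, W U) := fun U => AddMonoidHom.mk' (w U) fun a b =>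
    (hex U (a + b)).unique (hw U (a + b)) ((hw U a).add (lift ξ e U.2).surj (hw U b))
  have hnat : ∀ U V (hVU : W V ≤ W U) (b : Γ(X, W U)),
      δ V (X.presheaf.map (homOfLE hVU).op b) = X.presheaf.map (homOfLE hVU).op (δ U b) := by
    intro U V hVU b
    have hle := le_of_preimage_le ξ hVU
    let ρ := ξ.total.presheaf.map (homOfLE hle).op
    have h2 : sigU ξ e U.1 ≫ ρ = ρ ≫ sigU ξ e V.1 := by simp [ρ, sigU, Scheme.Hom.appLE_map, Scheme.Hom.map_appLE]
    have h3 : ρ ≫ ξ.i.app V.1 = ξ.i.app U.1 ≫ X.presheaf.map (homOfLE hVU).op := ξ.i.naturality (homOfLE hle).op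
    refine (hex V _).unique (hw V _) ?_
    exact IsLead.map ρ.hom (X.presheaf.map (homOfLE hVU).op).hom (map_le ξ U.1 V.1 hle)
      (fun r => congrArg (fun g : Γ(ξ.total, U.1) ⟶ Γ(ξ.total, V.1) => g r) h2)
      (fun r => congrArg (fun g : Γ(ξ.total, U.1) ⟶ Γ(X, W V) => g r) h3)
      (lift ξ e U.2).surj (hw U b) fun r v hv => (lift ξ e V.2).isLead_iff hmJ (h V) hv
  have hconst : ∀ U a, δ U (LocHilbGlueLib.algR x (W U) a) = 0 := by
    intro U a
    refine (hex U _).unique (hw U _) ?_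
    have e1 : (ξ.i.app U.1).hom ((strU ξ U.1).hom (algebraMap k A a)) = LocHilbGlueLib.algR x (W U) a := by
      refine (ConcreteCategory.congr_hom (isPushout_str ξ U.2).w (algebraMap k A a)).trans ?_
      exact congrArg (LocHilbGlueLib.algR x (W U)) (A.res.commutes a)
    rw [← e1]
    exact (lift ξ e U.2).isLead_str hmJ (h U) _
  obtain ⟨D, hD⟩ := exists_der (x := x) W (isBasis_preimage ξ) δ hnat
    (fun U a b => (hex U _).unique (hw U _) ((lift ξ e U.2).isLead_mul hmJ (h U) (hw U a) (hw U b))) hconst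
  obtain ⟨α, hα, -⟩ := OmegaUnivLib.isUniversal_dOmega x (Coh.structureModule X) D
  intro U r
  refine (lift ξ e U.2).sub_mem hmt (fun b => ?_) r
  have h0 : δ U b = 0 := by
    rw [← hD, ← hα, @Subsingleton.elim _ hX α 0]
    rfl
  exact h0 ▸ hw U b

theorem eq_id_of_subsingleton (hX : Subsingleton (Omega.sheaf x ⟶ Coh.structureModule X)) (e : ξ.Iso ξ) :
    e.iso.hom = 𝟙 ξ.total := by
  obtain ⟨J, hJ, hmin⟩ := (wellFounded_lt (α := Ideal A)).has_min {J | IdMod ξ e J}
    ⟨_, idMod_maximalIdeal ξ e⟩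
  refine eq_id_of_idMod_bot ξ ?_
  by_cases h0 : J = ⊥
  · exact h0 ▸ hJ
  · obtain ⟨J', t, hlt, ht, h1, h2, h3⟩ := exists_maximal_below h0
    exact absurd hlt (hmin J' (idMod_step ξ hX e ht h1 h2 h3 hJ))

end Groth.Agent.RigidLib
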