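import Groth.Agent.RigidLib.Group
import Mathlib.AlgebraicGeometry.Morphisms.QuasiFinite
import Mathlib.AlgebraicGeometry.Morphisms.Flat

/-!
# More rigidity over an arbitrary base
-/

set_option autoImplicit false
set_option backward.isDefEq.respectTransparency false
set_option backward.defeqAttrib.useBackward true
set_option linter.style.haveILetI false
set_option linter.unusedSectionVars false

universe u

open CategoryTheory CategoryTheory.Limits MonoidalCategory CartesianMonoidalCategory MonObj GrpObj AlgebraicGeometry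

noncomputable section

namespace Groth.Agent.RigidLib

/-- Rigidity: near a collapsed fibre a morphism factors through the base. -/
theorem exists_clopen_factor {S T X Y : Scheme.{u}} (p : T ⟶ S) (q : Y ⟶ S) [IsSeparated q]
    (g : X ⟶ T) [IsProper g] [Flat g] [LocallyOfFinitePresentation g] [GeometricallyConnected g]
    [GeometricallyReduced g] (f : X ⟶ Y) (hf : f ≫ q = g ≫ p) (t : T) (ht : (f '' (g ⁻¹' {t})).Subsingleton) :
    ∃ W : T.Opens, IsClosed (W : Set T) ∧ t ∈ W ∧
      ∃ k : (W : Scheme.{u}) ⟶ Y, (g ⁻¹ᵁ W).ι ≫ f = (g ∣_ W) ≫ k := by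
  have h0 := bijApp_of_geom g
  have hp := surjective_of_geom g
  have htloc : t ∈ locus g f := (mem_locus_iff hp f).2 fun x x' hx hx' => ht ⟨x, hx, rfl⟩ ⟨x', hx', rfl⟩
  obtain ⟨y, hy⟩ := htloc
  obtain ⟨W₀, k₀, htW₀, hk₀⟩ := exists_factor g.isClosedMap h0 f hy
  have hk₀q : k₀ ≫ q = W₀.ι ≫ p := by
    refine cancel_left (p := g ∣_ W₀) (surjective_restrict hp W₀) (bijApp_restrict h0 W₀) ?_
    rw [← Category.assoc, hk₀, Category.assoc, hf, ← Category.assoc, ← Category.assoc, morphismRestrict_ι]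
  let F : X ⟶ pullback p q := pullback.lift g f hf.symm
  have hF : F ≫ pullback.fst p q = g := pullback.lift_fst _ _ _
  haveI : IsSeparated (pullback.fst p q) := MorphismProperty.pullback_fst _ _ inferInstance
  let l : W₀.toScheme ⟶ pullback p q := pullback.lift W₀.ι k₀ hk₀q.symm
  have hl : (g ∣_ W₀) ≫ l = (g ⁻¹ᵁ W₀).ι ≫ F := by
    apply pullback.hom_ext
    · rw [Category.assoc, pullback.lift_fst, Category.assoc, pullback.lift_fst, morphismRestrict_ι]
    · rw [Category.assoc, pullback.lift_snd, Category.assoc, pullback.lift_snd, hk₀]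
  have htF : t ∈ locus g F := ⟨l ⟨t, htW₀⟩, fun x hx => by
    let x' : (g ⁻¹ᵁ W₀).toScheme := ⟨x, show g x ∈ W₀ by rw [hx]; exact htW₀⟩
    have h1 : (g ∣_ W₀) x' = ⟨t, htW₀⟩ := Subtype.ext (by
      show W₀.ι ((g ∣_ W₀) x') = t
      rw [← Scheme.Hom.comp_apply, morphismRestrict_ι, Scheme.Hom.comp_apply]
      exact hx)
    rw [← h1, ← Scheme.Hom.comp_apply, hl, Scheme.Hom.comp_apply]
    rfl⟩
  let W : T.Opens := ⟨locus g F, isOpen_locus g.isClosedMap h0 F⟩
  obtain ⟨r, hr, hr'⟩ := exists_section_over g.isClosedMap hp h0 F hF W subset_rfl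
  exact ⟨W, isClosed_locus g.isClosedMap hp h0 F hF, htF, r ≫ pullback.snd p q, by
    rw [reassoc_of% hr', pullback.lift_snd]⟩

variable {S : Scheme.{u}} {X Y : Over S}

/-- Homomorphisms agreeing on one fibre agree over an open and closed neighbourhood. -/
theorem exists_clopen_eq [GrpObj X] [IsProper X.hom] [Flat X.hom] [LocallyOfFinitePresentation X.hom]
    [GeometricallyReduced X.hom] [GeometricallyConnected X.hom] [GrpObj Y] [IsSeparated Y.hom]
    (f g : X ⟶ Y) [IsMonHom f] [IsMonHom g] (s : S) (hs : X.hom.fiberι s ≫ f.left = X.hom.fiberι s ≫ g.left) :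
    ∃ W : S.Opens, IsClosed (W : Set S) ∧ s ∈ W ∧ (X.hom ⁻¹ᵁ W).ι ≫ f.left = (X.hom ⁻¹ᵁ W).ι ≫ g.left := by
  have h0 := bijApp_of_geom X.hom
  have hp := surjective_of_geom X.hom
  let h : X ⟶ Y := f * g⁻¹
  let Z : Over S := Over.mk (X.hom.fiberι s ≫ X.hom)
  let j : Z ⟶ X := Over.homMk (X.hom.fiberι s) rfl
  have hj : j ≫ f = j ≫ g := Over.OverMorphism.ext hs
  have hjh : j ≫ h = 1 := by rw [MonObj.comp_mul, GrpObj.comp_inv, hj, mul_inv_cancel]
  have hsloc : s ∈ locus X.hom h.left := ⟨η[Y].left s, fun x hx => by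
    obtain ⟨z, rfl⟩ : x ∈ Set.range (X.hom.fiberι s) := by
      rw [Scheme.Hom.range_fiberι]
      exact hx
    have h2 := congrArg (fun a : Z ⟶ Y => a.left z) hjh
    simp only [Hom.one_def, Over.comp_left, Scheme.Hom.comp_apply] at h2
    exact h2.trans (congrArg _ hx)⟩
  let W : S.Opens := ⟨locus X.hom h.left, isOpen_locus X.hom.isClosedMap h0 h.left⟩
  obtain ⟨r, hr, hr'⟩ := exists_section_over X.hom.isClosedMap hp h0 h.left (Over.w h) W subset_rfl
  refine ⟨W, isClosed_locus X.hom.isClosedMap hp h0 h.left (Over.w h), hsloc, ?_⟩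
  let XW : Over S := Over.mk ((X.hom ⁻¹ᵁ W).ι ≫ X.hom)
  let i : XW ⟶ X := Over.homMk (X.hom ⁻¹ᵁ W).ι rfl
  let WS : Over S := Over.mk W.ι
  let r' : WS ⟶ Y := Over.homMk r hr
  let π : XW ⟶ WS := Over.homMk (X.hom ∣_ W) (morphismRestrict_ι _ _)
  have hπ : i ≫ h = π ≫ r' := Over.OverMorphism.ext hr'.symm
  let σ : WS ⟶ XW := Over.homMk ((isPullback_morphismRestrict X.hom W).lift (𝟙 W.toScheme) (W.ι ≫ η[X].left) (by
      erw [Category.id_comp, Category.assoc]
      exact ((congrArg (W.ι ≫ ·) (Over.w η[X])).trans (Category.comp_id _)).symm)) (by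
      show (isPullback_morphismRestrict X.hom W).lift _ _ _ ≫ (X.hom ⁻¹ᵁ W).ι ≫ X.hom = W.ι
      rw [IsPullback.lift_snd_assoc, Category.assoc]
      exact (congrArg (W.ι ≫ ·) (Over.w η[X])).trans (Category.comp_id _))
  have hσπ : σ ≫ π = 𝟙 WS := Over.OverMorphism.ext ((isPullback_morphismRestrict X.hom W).lift_fst _ _ _)
  have hσi : σ ≫ i = toUnit WS ≫ η[X] :=
    Over.OverMorphism.ext ((isPullback_morphismRestrict X.hom W).lift_snd _ _ _)
  have hr1 : r' = 1 := by
    have e1 : r' = σ ≫ i ≫ h := by rw [hπ, reassoc_of% hσπ]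
    rw [e1, reassoc_of% hσi, MonObj.comp_mul, GrpObj.comp_inv, IsMonHom.one_hom, IsMonHom.one_hom, mul_inv_cancel,
      MonObj.comp_one]
  rw [hr1, MonObj.comp_one, MonObj.comp_mul, GrpObj.comp_inv] at hπ
  exact congrArg Over.Hom.left (mul_inv_eq_one.1 hπ)

/-- Isogenies are monomorphisms for homomorphisms out of abelian schemes. -/
theorem eq_of_comp_eq {Z : Over S} [GrpObj X] [GrpObj Y] [GrpObj Z] [IsSeparated X.hom]
    [IsProper Z.hom] [Flat Z.hom] [LocallyOfFinitePresentation Z.hom] [GeometricallyReduced Z.hom]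
    [GeometricallyConnected Z.hom] (f : X ⟶ Y) [IsMonHom f] [IsFinite f.left]
    (h₁ h₂ : Z ⟶ X) [IsMonHom h₁] [IsMonHom h₂] (h : h₁ ≫ f = h₂ ≫ f) : h₁ = h₂ := by
  have h0 := bijApp_of_geom Z.hom
  have hp := surjective_of_geom Z.hom
  let d : Z ⟶ X := h₁ * h₂⁻¹
  have hd : d ≫ f = 1 := by
    rw [MonObj.mul_comp, GrpObj.inv_comp, h, mul_inv_cancel]
  have hηd : η[Z] ≫ d = 1 := by
    rw [MonObj.comp_mul, GrpObj.comp_inv, IsMonHom.one_hom, IsMonHom.one_hom, mul_inv_cancel]
  have huniv : locus Z.hom d.left = Set.univ := Set.eq_univ_of_forall fun s => by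
    refine (mem_locus_iff hp d.left).2 fun x x' hx hx' => ?_
    have hmap : ∀ z : Z.left, Z.hom z = s → f.left (d.left z) = η[Y].left s := fun z hz => by
      have h2 := congrArg (fun a : Z ⟶ Y => a.left z) hd
      simp only [Hom.one_def, Over.comp_left, Scheme.Hom.comp_apply] at h2
      exact h2.trans (congrArg _ hz)
    have hsub : d.left '' (Z.hom ⁻¹' {s}) ⊆ f.left ⁻¹' {η[Y].left s} := by
      rintro _ ⟨z, hz, rfl⟩
      exact hmap z hz
    haveI : ConnectedSpace ↥(Z.hom.fiber s) := inferInstance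
    have hc : _root_.IsPreconnected (d.left '' (Z.hom ⁻¹' {s})) := by
      refine _root_.IsPreconnected.image ?_ _ d.left.continuous.continuousOn
      rw [← Scheme.Hom.range_fiberι]
      exact isPreconnected_range (Z.hom.fiberι s).continuous
    haveI := (f.left.isDiscrete_preimage_singleton (η[Y].left s)).to_subtype
    have htd : IsTotallyDisconnected (f.left ⁻¹' {η[Y].left s}) :=
      totallyDisconnectedSpace_subtype_iff.1 inferInstance
    exact htd _ hsub hc ⟨x, hx, rfl⟩ ⟨x', hx', rfl⟩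
  obtain ⟨t, ht, ht'⟩ := exists_section_of_univ Z.hom.isClosedMap hp h0 d.left (Over.w d) huniv
  have hdt : d = toUnit Z ≫ (Over.homMk t ht : 𝟙_ (Over S) ⟶ X) := Over.OverMorphism.ext ht'
  have ht1 : (Over.homMk t ht : 𝟙_ (Over S) ⟶ X) = 1 := by
    rw [← hηd, hdt, ← Category.assoc, Subsingleton.elim (η[Z] ≫ toUnit Z) (𝟙 _), Category.id_comp]
  rw [ht1, MonObj.comp_one] at hdt
  exact mul_inv_eq_one.1 hdt

end Groth.Agent.RigidLib
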