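import Groth.Agent.RigidLib.Proper

/-!
# Constant functions on a fibre descend along a base change
-/

set_option autoImplicit false
set_option backward.isDefEq.respectTransparency false
set_option linter.style.haveILetI false

universe u

open CategoryTheory CategoryTheory.Limits AlgebraicGeometry

noncomputable section

namespace Groth.Agent.RigidLib

/-- Bijectivity of global functions descends along a base change from a field. -/
theorem bijective_appTop_descends {P Y T Z : Scheme.{u}} {g : P ⟶ Y} {q : P ⟶ T} {r : Y ⟶ Z} {j : T ⟶ Z}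
    (H : IsPullback g q r j) [Flat j] [IsAffine Z] [IsAffine T] [CompactSpace Y] [QuasiSeparatedSpace Y]
    (hF : IsField Γ(Z, ⊤)) [Nontrivial Γ(T, ⊤)]
    (h : Function.Bijective q.appTop.hom) : Function.Bijective r.appTop.hom := by
  have hp := SchDesc.isPushout_appTop H
  have hcomp : g.appTop.hom.comp r.appTop.hom = q.appTop.hom.comp j.appTop.hom := congr($(hp.w).hom)
  algebraize [r.appTop.hom, j.appTop.hom, g.appTop.hom, q.appTop.hom, g.appTop.hom.comp r.appTop.hom]
  haveI : IsScalarTower Γ(Z, ⊤) Γ(T, ⊤) Γ(P, ⊤) := IsScalarTower.of_algebraMap_eq' hcomp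
  haveI : Algebra.IsPushout Γ(Z, ⊤) Γ(Y, ⊤) Γ(T, ⊤) Γ(P, ⊤) := CommRingCat.isPushout_iff_isPushout.mp hp
  have hff : (algebraMap Γ(Z, ⊤) Γ(T, ⊤)).FaithfullyFlat := by
    rw [RingHom.faithfullyFlat_algebraMap_iff]
    letI := hF.toField
    exact inferInstance
  exact RingHom.FaithfullyFlat.codescendsAlong_bijective
    (S := Γ(Y, ⊤)) (R' := Γ(T, ⊤)) (S' := Γ(P, ⊤)) hff h

/-- Constant functions on a fibre descend along a base change. -/
theorem fibre_of_isPullback {X S : Scheme.{u}} {p : X ⟶ S} [QuasiCompact p] [QuasiSeparated p] {P T : Scheme.{u}}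
    {g : P ⟶ X} {q : P ⟶ T} {j : T ⟶ S} (H : IsPullback g q p j) (t : T)
    (h : Function.Bijective (algebraMap (T.residueField t) Γ(q.fiber t, ⊤))) :
    Function.Bijective (algebraMap (S.residueField (j t)) Γ(p.fiber (j t), ⊤)) := by
  have hq : Function.Bijective (q.fiberToSpecResidueField t).appTop.hom :=
    (Function.Bijective.of_comp_iff _
      (ConcreteCategory.bijective_of_isIso (Scheme.ΓSpecIso (T.residueField t)).inv)).1 h
  haveI : Flat (Spec.map (j.residueFieldMap t)) := by
    rw [HasRingHomProperty.Spec_iff (P := @Flat)]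
    algebraize [(j.residueFieldMap t).hom]
    exact inferInstanceAs (Module.Flat (S.residueField (j t)) (T.residueField t))
  haveI : QuasiSeparatedSpace ↥(p.fiber (j t)) := by
    haveI : QuasiSeparated (p.fiberToSpecResidueField (j t)) :=
      MorphismProperty.pullback_snd p (S.fromSpecResidueField (j t)) inferInstance
    exact quasiSeparatedSpace_of_quasiSeparated (p.fiberToSpecResidueField (j t))
  haveI : Nontrivial Γ(Spec (T.residueField t), ⊤) :=
    (Scheme.ΓSpecIso (T.residueField t)).commRingCatIsoToRingEquiv.toEquiv.nontrivial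
  have hF : IsField Γ(Spec (S.residueField (j t)), ⊤) :=
    MulEquiv.isField (Field.toIsField (S.residueField (j t)))
      (Scheme.ΓSpecIso (S.residueField (j t))).commRingCatIsoToRingEquiv.toMulEquiv
  exact (bijective_appTop_descends (Y := p.fiber (j t)) (r := p.fiberToSpecResidueField (j t))
    (isPullback_fiberToSpecResidueField_of_isPullback H t) hF hq).comp
    (ConcreteCategory.bijective_of_isIso (Scheme.ΓSpecIso (S.residueField (j t))).inv)

end Groth.Agent.RigidLib
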