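import Mathlib
import Groth.Agent.ArtFree.Basic

/-! The leading term of an automorphism of a flat lift over a local Artinian ring. -/

set_option autoImplicit false
set_option linter.style.haveILetI false

universe u

open IsLocalRing

namespace Groth.Agent.RigidLib

variable {A R B : Type u} [CommRing A] [IsLocalRing A] [CommRing R] [CommRing B]

/-- The data: a flat lift with an endomorphism inducing the identity on the closed fibre. -/
structure Lift (str : A →+* R) (π : R →+* B) (σ : R →+* R) : Prop where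
  flat : str.Flat
  nilp : IsNilpotent (maximalIdeal A)
  surj : Function.Surjective π
  ker : RingHom.ker π = (maximalIdeal A).map str
  σ_str : ∀ a, σ (str a) = str a
  π_σ : ∀ r, π (σ r) = π r

variable {str : A →+* R} {π : R →+* B} {σ : R →+* R}

theorem Lift.π_eq_zero_of_mul_mem (L : Lift str π σ) {J' : Ideal A} {t : A} (ht : t ∉ J') {v : R}
    (h : str t * v ∈ J'.map str) : π v = 0 := by
  classical
  letI := str.toAlgebra
  haveI : Module.Flat A R := L.flat
  haveI : Module.Free A R := ArtFree.free_of_flat_of_nilpotent L.nilp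
  let b := Module.Free.chooseBasis A R
  have h1 : t • v ∈ J' • (⊤ : Submodule A R) := by
    rw [Ideal.smul_top_eq_map]
    exact h
  have h2 : ∀ y ∈ J' • (⊤ : Submodule A R), ∀ i, b.repr y i ∈ J' := by
    intro y hy i
    refine Submodule.smul_induction_on hy (fun a ha y _ => ?_) fun y z hy hz => ?_
    · rw [map_smul, Finsupp.smul_apply, smul_eq_mul]
      exact J'.mul_mem_right _ ha
    · rw [map_add, Finsupp.add_apply]
      exact J'.add_mem hy hz
  have h3 : ∀ i, b.repr v i ∈ maximalIdeal A := by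
    intro i
    by_contra hu
    rw [IsLocalRing.mem_maximalIdeal, mem_nonunits_iff, not_not] at hu
    have h4 := h2 _ h1 i
    rw [map_smul, Finsupp.smul_apply, smul_eq_mul, mul_comm] at h4
    exact ht ((Ideal.unit_mul_mem_iff_mem J' hu).mp h4)
  rw [← RingHom.mem_ker, L.ker, ← b.linearCombination_repr v, Finsupp.linearCombination_apply]
  refine Submodule.sum_mem _ fun i _ => ?_
  show str (b.repr v i) * b i ∈ _
  exact Ideal.mul_mem_right _ _ (Ideal.mem_map_of_mem str (h3 i))

variable (str π σ) in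
/-- `w` is the leading term at `b` modulo `J'` along `t`. -/
def IsLead (J' : Ideal A) (t : A) (b w : B) : Prop :=
  ∀ r, π r = b → ∃ v, π v = w ∧ σ r - r - str t * v ∈ J'.map str

variable {J J' : Ideal A} {t : A}

omit [IsLocalRing A] in
theorem exists_coef (hJ : J ≤ J' ⊔ Ideal.span {t}) {y : R} (hy : y ∈ J.map str) :
    ∃ v, y - str t * v ∈ J'.map str := by
  have h := Ideal.map_mono (f := str) hJ hy
  rw [Ideal.map_sup, Ideal.map_span, Set.image_singleton, Submodule.mem_sup] at h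
  obtain ⟨a, ha, b, hb, rfl⟩ := h
  obtain ⟨v, rfl⟩ := Ideal.mem_span_singleton'.mp hb
  exact ⟨v, by rwa [mul_comm v, add_sub_cancel_right]⟩

theorem Lift.sub_mem_of_π (L : Lift str π σ) (hmJ : maximalIdeal A * J ≤ J')
    (hσ : ∀ r, σ r - r ∈ J.map str) {r : R} (hr : π r = 0) : σ r - r ∈ J'.map str := by
  have hr' : r ∈ (maximalIdeal A).map str := by rw [← L.ker]; exact RingHom.mem_ker.mpr hr
  refine Submodule.span_induction ?_ ?_ ?_ ?_ hr'
  · rintro _ ⟨a, -, rfl⟩
    rw [L.σ_str, sub_self]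
    exact zero_mem _
  · rw [map_zero, sub_zero]
    exact zero_mem _
  · intro y z _ _ hy hz
    rw [map_add, add_sub_add_comm]
    exact add_mem hy hz
  · intro c y hy0 hy
    rw [smul_eq_mul, map_mul, show σ c * σ y - c * y = (σ c - c) * y + σ c * (σ y - y) by ring]
    refine add_mem ?_ (Ideal.mul_mem_left _ _ hy)
    have h1 : (σ c - c) * y ∈ J.map str * (maximalIdeal A).map str := Ideal.mul_mem_mul (hσ c) hy0
    rw [← Ideal.map_mul, mul_comm] at h1
    exact Ideal.map_mono hmJ h1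

theorem Lift.isLead_iff (L : Lift str π σ) (hmJ : maximalIdeal A * J ≤ J') (hσ : ∀ r, σ r - r ∈ J.map str)
    {r v : R} (h : σ r - r - str t * v ∈ J'.map str) : IsLead str π σ J' t (π r) (π v) := by
  intro r' hr'
  refine ⟨v, rfl, ?_⟩
  have h1 := L.sub_mem_of_π hmJ hσ (r := r' - r) (by rw [map_sub, hr', sub_self])
  rw [show σ r' - r' - str t * v = (σ (r' - r) - (r' - r)) + (σ r - r - str t * v) by rw [map_sub]; ring]
  exact add_mem h1 h

theorem Lift.existsUnique_lead (L : Lift str π σ) (hJ : J ≤ J' ⊔ Ideal.span {t})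
    (hmJ : maximalIdeal A * J ≤ J') (ht : t ∉ J') (hσ : ∀ r, σ r - r ∈ J.map str) (b : B) :
    ∃! w, IsLead str π σ J' t b w := by
  obtain ⟨r, rfl⟩ := L.surj b
  obtain ⟨v, hv⟩ := exists_coef hJ (hσ r)
  refine ⟨π v, L.isLead_iff hmJ hσ hv, fun w hw => ?_⟩
  obtain ⟨v', rfl, hv'⟩ := hw r rfl
  rw [← sub_eq_zero, ← map_sub]
  refine L.π_eq_zero_of_mul_mem ht ?_
  rw [show str t * (v' - v) = (σ r - r - str t * v) - (σ r - r - str t * v') by ring]
  exact sub_mem hv hv'

omit [IsLocalRing A] in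
theorem IsLead.add {b b' w w' : B} (hπ : Function.Surjective π) (h : IsLead str π σ J' t b w)
    (h' : IsLead str π σ J' t b' w') : IsLead str π σ J' t (b + b') (w + w') := by
  intro r hr
  obtain ⟨r₁, rfl⟩ := hπ b
  obtain ⟨v', rfl, hv'⟩ := h' (r - r₁) (by rw [map_sub, hr, add_sub_cancel_left])
  obtain ⟨v, rfl, hv⟩ := h r₁ rfl
  refine ⟨v + v', map_add π v v', ?_⟩
  rw [show σ r - r - str t * (v + v') =
    (σ r₁ - r₁ - str t * v) + (σ (r - r₁) - (r - r₁) - str t * v') by rw [map_sub]; ring]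
  exact add_mem hv hv'

theorem Lift.isLead_mul (L : Lift str π σ) (hmJ : maximalIdeal A * J ≤ J') (hσ : ∀ r, σ r - r ∈ J.map str)
    {b b' w w' : B} (h : IsLead str π σ J' t b w) (h' : IsLead str π σ J' t b' w') :
    IsLead str π σ J' t (b * b') (b * w' + b' * w) := by
  obtain ⟨r, rfl⟩ := L.surj b
  obtain ⟨r', rfl⟩ := L.surj b'
  obtain ⟨v, rfl, hv⟩ := h r rfl
  obtain ⟨v', rfl, hv'⟩ := h' r' rfl
  rw [← map_mul π r r', show π r * π v' + π r' * π v = π (r * v' + σ r' * v) by
    rw [map_add, map_mul, map_mul, L.π_σ]]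
  refine L.isLead_iff hmJ hσ ?_
  rw [show σ (r * r') - r * r' - str t * (r * v' + σ r' * v) =
    σ r' * (σ r - r - str t * v) + r * (σ r' - r' - str t * v') by rw [map_mul]; ring]
  exact add_mem (Ideal.mul_mem_left _ _ hv) (Ideal.mul_mem_left _ _ hv')

theorem Lift.isLead_str (L : Lift str π σ) (hmJ : maximalIdeal A * J ≤ J') (hσ : ∀ r, σ r - r ∈ J.map str)
    (a : A) : IsLead str π σ J' t (π (str a)) 0 := by
  have h := L.isLead_iff (t := t) hmJ hσ (r := str a) (v := 0) (by
    rw [L.σ_str, sub_self, mul_zero, sub_zero]; exact zero_mem _)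
  rwa [map_zero] at h

theorem Lift.sub_mem (L : Lift str π σ) (hJ'J : maximalIdeal A * Ideal.span {t} ≤ J')
    (h : ∀ b, IsLead str π σ J' t b 0) (r : R) : σ r - r ∈ J'.map str := by
  obtain ⟨v, hv0, hv⟩ := h (π r) r rfl
  have h1 : str t * v ∈ (Ideal.span {t}).map str * (maximalIdeal A).map str := by
    refine Ideal.mul_mem_mul (Ideal.mem_map_of_mem str (Ideal.mem_span_singleton_self t)) ?_
    rw [← L.ker]; exact RingHom.mem_ker.mpr hv0
  rw [← Ideal.map_mul, mul_comm] at h1
  have := add_mem hv (Ideal.map_mono hJ'J h1)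
  rwa [sub_add_cancel] at this

omit [IsLocalRing A] in
theorem IsLead.map {R' B' : Type u} [CommRing R'] [CommRing B'] {str' : A →+* R'} {π' : R' →+* B'}
    {σ' : R' →+* R'} (ρ : R →+* R') (res : B →+* B') (h₁ : ρ.comp str = str') (h₂ : ∀ r, ρ (σ r) = σ' (ρ r))
    (h₃ : ∀ r, π' (ρ r) = res (π r)) {b w : B} (hπ : Function.Surjective π) (h : IsLead str π σ J' t b w)
    (huniq : ∀ r v, σ' r - r - str' t * v ∈ J'.map str' → IsLead str' π' σ' J' t (π' r) (π' v)) :
    IsLead str' π' σ' J' t (res b) (res w) := by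
  obtain ⟨r, rfl⟩ := hπ b
  obtain ⟨v, rfl, hv⟩ := h r rfl
  rw [← h₃, ← h₃]
  refine huniq _ _ ?_
  have h4 := Ideal.mem_map_of_mem ρ hv
  rw [Ideal.map_map, h₁, map_sub, map_sub, map_mul, h₂, ← RingHom.comp_apply ρ str, h₁] at h4
  exact h4

theorem exists_maximal_below {A : Type u} [CommRing A] [IsLocalRing A] [IsNoetherianRing A] {J : Ideal A}
    (h : J ≠ ⊥) : ∃ (J' : Ideal A) (t : A), J' < J ∧ t ∉ J' ∧ J ≤ J' ⊔ Ideal.span {t} ∧
      maximalIdeal A * J ≤ J' ∧ maximalIdeal A * Ideal.span {t} ≤ J' := by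
  obtain ⟨J', hJ', hmax⟩ := (wellFounded_gt (α := Ideal A)).has_min {K : Ideal A | K < J} ⟨⊥, bot_lt_iff_ne_bot.mpr h⟩
  replace hJ' : J' < J := hJ'
  obtain ⟨t, htJ, htJ'⟩ := SetLike.exists_of_lt hJ'
  have key : ∀ K, J' ≤ K → K ≤ J → K ≠ J → K = J' := fun K h1 h2 h3 =>
    le_antisymm (not_not.mp fun hh => hmax K (lt_of_le_of_ne h2 h3) (lt_of_le_not_ge h1 hh)) h1
  have hsp : J ≤ J' ⊔ Ideal.span {t} := by
    by_contra hh
    have e : J' ⊔ Ideal.span {t} = J' :=
      key _ le_sup_left (sup_le hJ'.le ((Ideal.span_singleton_le_iff_mem _).mpr htJ)) fun e => hh e.ge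
    exact htJ' (e ▸ Ideal.mem_sup_right (Ideal.mem_span_singleton_self t))
  have hm : maximalIdeal A * J ≤ J' := by
    rcases eq_or_ne (J' ⊔ maximalIdeal A * J) J with e | e
    · exact absurd (Submodule.le_of_le_smul_of_le_jacobson_bot (IsNoetherian.noetherian J)
        (maximalIdeal_le_jacobson _) (by rw [smul_eq_mul]; exact e.ge)) (not_le_of_gt hJ')
    · exact le_sup_right.trans (key _ le_sup_left (sup_le hJ'.le (Ideal.mul_le.mpr fun a _ b hb => J.mul_mem_left a hb)) e).le
  exact ⟨J', t, hJ', htJ', hsp, hm,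
    (Ideal.mul_mono le_rfl ((Ideal.span_singleton_le_iff_mem _).mpr htJ)).trans hm⟩

end Groth.Agent.RigidLib
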