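import Groth.Agent.RigidLib.Descent
import Groth.Agent.FPModelLib.ProperModel
import Groth.Agent.PicTrivLib.UnivApp

/-!
# `p_* O = O` for proper flat morphisms over any base
-/

set_option autoImplicit false
set_option backward.isDefEq.respectTransparency false
set_option linter.style.haveILetI false

universe u

open CategoryTheory CategoryTheory.Limits AlgebraicGeometry

noncomputable section

namespace Groth.Agent.RigidLib

/-- Over an affine base: descend to a noetherian model and use semicontinuity there. -/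
theorem bijApp_of_fibres_affine {X S : Scheme.{u}} (p : X ⟶ S) [IsAffine S] [IsProper p] [Flat p]
    [LocallyOfFinitePresentation p]
    (h : ∀ s : S, Function.Bijective (algebraMap (S.residueField s) Γ(p.fiber s, ⊤))) : BijApp p := by
  obtain ⟨i, X₀, f₀, q, _, hp₀, hfl₀, hsq⟩ := FPModelLib.exists_proper_flat_zmodel p
  let π := FPModelLib.zπ S i
  haveI := hp₀
  haveI := hfl₀
  haveI : IsLocallyNoetherian ((FPModelLib.zSys Γ(S, ⊤)).obj i) := inferInstance
  have hπ : ∀ s, Function.Bijective (algebraMap (_root_.AlgebraicGeometry.Scheme.residueField _ (π s))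
      Γ(f₀.fiber (π s), ⊤)) := fun s => fibre_of_isPullback hsq s (h s)
  choose D hsD hD using fun s => PicTrivLib.exists_open_univ f₀ (π s) (hπ s)
  let W : ((FPModelLib.zSys Γ(S, ⊤)).obj i).Opens := ⨆ s, D s
  have hW : ∀ y : W, Function.Bijective (algebraMap (W.toScheme.residueField y) Γ((f₀ ∣_ W).fiber y, ⊤)) := by
    intro y
    obtain ⟨s, hs⟩ := TopologicalSpace.Opens.mem_iSup.1 y.2
    refine fibres_of_isPullback (isPullback_morphismRestrict f₀ W).flip y ?_
    refine bijective_fibre_of_snd (p := f₀) ?_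
    have hle : (⊤ : (Spec (((FPModelLib.zSys Γ(S, ⊤)).obj i).residueField (W.ι y))).Opens) ≤
        (((FPModelLib.zSys Γ(S, ⊤)).obj i).fromSpecResidueField (W.ι y)) ⁻¹ᵁ D s := fun z _ => by
      show ((FPModelLib.zSys Γ(S, ⊤)).obj i).fromSpecResidueField (W.ι y) z ∈ D s
      rw [Scheme.fromSpecResidueField_apply]
      exact hs
    exact hD s _ _ ⊤ (isAffineOpen_top _) hle
  have hrange : Set.range π ⊆ Set.range W.ι := by
    rw [Scheme.Opens.range_ι]
    rintro _ ⟨s, rfl⟩
    exact TopologicalSpace.Opens.mem_iSup.2 ⟨s, hsD s⟩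
  let π' : S ⟶ W.toScheme := IsOpenImmersion.lift W.ι π hrange
  have hπ' : π' ≫ W.ι = π := IsOpenImmersion.lift_fac _ _ _
  have hr := (isPullback_morphismRestrict f₀ W).flip
  let q' : X ⟶ (f₀ ⁻¹ᵁ W).toScheme := hr.lift q (p ≫ π') (by rw [Category.assoc, hπ']; exact hsq.w)
  have hsq' : IsPullback q' p (f₀ ∣_ W) π' :=
    IsPullback.of_right (h₁₂ := (f₀ ⁻¹ᵁ W).ι) (h₂₂ := W.ι) (v₁₃ := f₀)
      (by rw [hr.lift_fst, hπ']; exact hsq) (hr.lift_snd _ _ _) hr
  intro V
  let e := hsq'.isoPullback
  have hsnd : p = e.hom ≫ pullback.snd (f₀ ∣_ W) π' := hsq'.isoPullback_hom_snd.symm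
  haveI := PicTrivLib.isIso_app_univ (f₀ ∣_ W) hW S π' V
  rw [hsnd, Scheme.Hom.comp_app, CommRingCat.hom_comp, RingHom.coe_comp]
  exact (ConcreteCategory.bijective_of_isIso (e.hom.app _)).comp
    (ConcreteCategory.bijective_of_isIso ((pullback.snd (f₀ ∣_ W) π').app V))

/-- A proper flat finitely presented morphism with only constant functions on its fibres has `p_* O = O`. -/
theorem bijApp_of_fibres_any {X S : Scheme.{u}} (p : X ⟶ S) [IsProper p] [Flat p]
    [LocallyOfFinitePresentation p]
    (h : ∀ s : S, Function.Bijective (algebraMap (S.residueField s) Γ(p.fiber s, ⊤))) : BijApp p := by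
  refine bijApp_of_locally fun s => ?_
  obtain ⟨_, ⟨U : S.Opens, (hU : IsAffineOpen U), rfl⟩, hsU, -⟩ :=
    S.isBasis_affineOpens.exists_subset_of_mem_open (Set.mem_univ s) isOpen_univ
  refine ⟨U, hsU, fun V hV => ?_⟩
  haveI : IsAffine U.toScheme := hU
  have hb := bijApp_of_fibres_affine (p ∣_ U)
    (fun u => fibres_of_isPullback (isPullback_morphismRestrict p U).flip u (h _)) (U.ι ⁻¹ᵁ V)
  rw [morphismRestrict_app, CommRingCat.hom_comp, RingHom.coe_comp] at hb
  have hb' := (Function.Bijective.of_comp_iff'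
    (ConcreteCategory.bijective_of_isIso (X.presheaf.map (eqToHom (image_morphismRestrict_preimage p U (U.ι ⁻¹ᵁ V))).op)) _).1 hb
  have hVeq : U.ι ''ᵁ (U.ι ⁻¹ᵁ V) = V := by
    rw [Scheme.Hom.image_preimage_eq_opensRange_inf, Scheme.Opens.opensRange_ι, inf_eq_right]
    exact hV
  have key : ∀ W : S.Opens, W = V → Function.Bijective (p.app W).hom → Function.Bijective (p.app V).hom :=
    fun W e => by subst e; exact id
  exact key _ hVeq hb'

end Groth.Agent.RigidLib
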