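import Groth.Agent.CubeLib.Artin
import Groth.Agent.RigidLib.Proper

/-!
# Rigidity along the infinitesimal neighbourhoods of a fibre
-/

set_option autoImplicit false
set_option backward.isDefEq.respectTransparency false
set_option linter.style.haveILetI false

universe u

open CategoryTheory CategoryTheory.Limits AlgebraicGeometry TopologicalSpace Opposite
open Groth.Agent.CubeLib Groth.Agent.PullbackMod Groth.Agent.ParaFLib Groth.Agent.AmpleLib

noncomputable section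

namespace Groth.Agent.RigidLib

section Artin

variable {R R' : CommRingCat.{u}} {k : Type u} [Field k] {φ : R ⟶ R'} {φ₀ : R ⟶ CommRingCat.of k} {ε : R}
variable {X X' X₀ : Scheme.{u}} {f : X ⟶ Spec R} {f' : X' ⟶ Spec R'} {f₀ : X₀ ⟶ Spec (CommRingCat.of k)}
  {g : X' ⟶ X} {g₀ : X₀ ⟶ X}

/-- Global functions stay constant along a small extension, without separatedness. -/
theorem isConst_small (S : SmallExt φ φ₀ ε) (hc : IsPullback g f' f (Spec.map φ))
    (hc₀ : IsPullback g₀ f₀ f (Spec.map φ₀)) [Flat f] (h' : IsConst f') (h₀ : IsConst f₀) : IsConst f := fun F => by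
  obtain ⟨r', hr'⟩ := h' (ap g (le_top : (⊤ : X'.Opens) ≤ g ⁻¹ᵁ ⊤) F)
  obtain ⟨r, rfl⟩ := S.surj r'
  let κ := {W : X.Opens // IsAffineOpen W}
  let V : κ → X.Opens := fun a => a.1
  have hcov : ∀ U : X.Opens, U ≤ ⨆ a : {W : X.Opens // IsAffineOpen W ∧ W ≤ U}, a.1 := fun U x hx => by
    obtain ⟨_, ⟨W : X.Opens, hW, rfl⟩, hx, hWU⟩ := X.isBasis_affineOpens.exists_subset_of_mem_open hx U.2
    exact Opens.mem_iSup.2 ⟨⟨W, hW, hWU⟩, hx⟩
  have htop : (⊤ : X.Opens) ≤ iSup V := (hcov ⊤).trans (iSup_le fun a => le_iSup V ⟨a.1, a.2.1⟩)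
  have hloc : ∀ a, ∃ H, rs le_top F = (BCLib.secHom f (V a)).hom r + SmallExt.E ε f (V a) * H := fun a =>
    S.exists_eq_add hc a.2 (by
      rw [ap_secHom hc.w, ap_rs, ← rs_secHom (f := f') (le_top : g ⁻¹ᵁ V a ≤ ⊤), hr', rs_ap])
  choose H hH using hloc
  have hov : ∀ a b, rs (inf_le_left : g₀ ⁻¹ᵁ V a ⊓ g₀ ⁻¹ᵁ V b ≤ _) (ap g₀ le_rfl (H a)) =
      rs inf_le_right (ap g₀ le_rfl (H b)) := fun a b => by
    refine eq_of_cover (V := fun c : {W : X.Opens // IsAffineOpen W ∧ W ≤ V a ⊓ V b} => g₀ ⁻¹ᵁ c.1)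
      (fun c => le_inf (g₀.preimage_mono (c.2.2.trans inf_le_left)) (g₀.preimage_mono (c.2.2.trans inf_le_right)))
      (fun z hz => by
        obtain ⟨c, hc⟩ := Opens.mem_iSup.1 (hcov (V a ⊓ V b) (show g₀ z ∈ V a ⊓ V b from hz))
        exact Opens.mem_iSup.2 ⟨c, hc⟩) fun c => ?_
    have ha := congrArg (rs (c.2.2.trans inf_le_left : c.1 ≤ V a)) (hH a)
    have hb := congrArg (rs (c.2.2.trans inf_le_right : c.1 ≤ V b)) (hH b)
    simp only [map_add, map_mul, rs_rs, rs_secHom, SmallExt.E] at ha hb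
    have := S.ap₀_eq hc₀ c.2.1 (add_left_cancel (ha.symm.trans hb)) (W' := g₀ ⁻¹ᵁ c.1) le_rfl
    rw [ap_rs, ap_rs] at this
    rw [rs_rs, rs_rs, rs_ap, rs_ap]
    exact this
  have hcov₀ : (⊤ : X₀.Opens) ≤ ⨆ a, g₀ ⁻¹ᵁ V a := fun z _ => by
    obtain ⟨a, ha⟩ := Opens.mem_iSup.1 (htop (show g₀ z ∈ (⊤ : X.Opens) from trivial))
    exact Opens.mem_iSup.2 ⟨a, ha⟩
  obtain ⟨H₀, hH₀⟩ := exists_glue (fun _ => le_top) hcov₀ _ hov
  obtain ⟨c₀, hc₀'⟩ := h₀ H₀
  obtain ⟨c, rfl⟩ := S.surj₀ c₀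
  refine ⟨r + ε * c, eq_of_cover (fun _ => le_top) htop fun a => ?_⟩
  rw [hH a, rs_secHom, map_add, map_mul]
  refine congrArg _ (S.mul_eq hc₀ a.2 ?_)
  rw [ap_secHom hc₀.w, ← hH₀ a, ← hc₀', rs_secHom]

theorem isConst_artin_aux' : ∀ (n : ℕ) {R : CommRingCat.{u}} [IsArtinianRing R] [IsLocalRing R]
    {φ₀ : R ⟶ CommRingCat.of k}, Module.length R R ≤ n → Function.Surjective φ₀.hom →
    ∀ {X X₀ : Scheme.{u}} {f : X ⟶ Spec R} [Flat f] {f₀ : X₀ ⟶ Spec (CommRingCat.of k)} {g₀ : X₀ ⟶ X},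
      IsPullback g₀ f₀ f (Spec.map φ₀) → IsConst f₀ → IsConst f
  | 0, R, _, _, φ₀, hn, _, _, _, _, _, _, _, _, _ =>
    absurd (nonpos_iff_eq_zero.1 hn) (Module.length_pos (R := R) (M := R)).ne'
  | n + 1, R, _, _, φ₀, hn, hφ₀, X, X₀, f, _, f₀, g₀, hc₀, h₀ => by
    by_cases hm : IsLocalRing.maximalIdeal R = ⊥
    · haveI := bijective_of_maximalIdeal_eq_bot hφ₀ hm
      haveI : IsIso g₀ := hc₀.isIso_fst_of_isIso
      intro F
      obtain ⟨c, hc⟩ := h₀ (ap g₀ (le_top : (⊤ : X₀.Opens) ≤ g₀ ⁻¹ᵁ ⊤) F)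
      obtain ⟨r, rfl⟩ := hφ₀ c
      refine ⟨r, (ConcreteCategory.bijective_of_isIso g₀.appTop).1 ?_⟩
      show g₀.appTop.hom _ = g₀.appTop.hom F
      have e1 : g₀.appTop.hom = ap g₀ (le_top : (⊤ : X₀.Opens) ≤ g₀ ⁻¹ᵁ ⊤) := by
        show _ = (g₀.appLE ⊤ (g₀ ⁻¹ᵁ ⊤) le_rfl).hom
        rw [Scheme.Hom.appLE_eq_app]
      rw [e1, ap_secHom hc₀.w, hc]
    · obtain ⟨R', _, _, φ, φ₀', ε, hφ, hφ', S, hlen⟩ := exists_smallExt hφ₀ hm
      let g := Limits.pullback.fst f (Spec.map φ)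
      let f' := Limits.pullback.snd f (Spec.map φ)
      have hc : IsPullback g f' f (Spec.map φ) := IsPullback.of_hasPullback _ _
      haveI : Flat f' := MorphismProperty.of_isPullback hc ‹Flat f›
      let g₀' := hc.lift g₀ (f₀ ≫ Spec.map φ₀') (by rw [hc₀.w, Category.assoc, ← Spec.map_comp, hφ])
      have hc₀' : IsPullback g₀' f₀ f' (Spec.map φ₀') := by
        refine IsPullback.of_right ?_ (hc.lift_snd _ _ _) hc
        rw [hc.lift_fst, ← Spec.map_comp, hφ]
        exact hc₀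
      exact isConst_small S hc hc₀ (isConst_artin_aux' n (R := R')
        ((ENat.add_le_add_iff_right ENat.one_ne_top).1 (by simpa using hlen.trans hn)) hφ' hc₀' h₀) h₀

end Artin

theorem secHom_top {R : CommRingCat.{u}} {P : Scheme.{u}} (π : P ⟶ Spec R) :
    BCLib.secHom π ⊤ = (Scheme.ΓSpecIso R).inv ≫ π.appTop := by
  rw [BCLib.secHom, show (homOfLE (le_top : (⊤ : P.Opens) ≤ ⊤)) = 𝟙 _ from rfl, op_id, P.presheaf.map_id,
    Category.comp_id]

/-- Over an Artinian local base, a morphism collapsing a space with only constant functions is constant. -/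
theorem eq_of_isConst {R : CommRingCat.{u}} {P Y : Scheme.{u}} {π : P ⟶ Spec R} (hP : IsConst π)
    (σ : Spec R ⟶ P) (hσ : σ ≫ π = 𝟙 _) (φ : P ⟶ Y) (y : Y) (hφ : ∀ z, φ z = y) : φ = π ≫ σ ≫ φ := by
  obtain ⟨_, ⟨V : Y.Opens, hV, rfl⟩, hyV, -⟩ := Y.isBasis_affineOpens.exists_subset_of_mem_open (Set.mem_univ y) isOpen_univ
  have hV : IsAffineOpen V := hV
  haveI : IsAffine V.toScheme := hV
  let a : P ⟶ V.toScheme := IsOpenImmersion.lift V.ι φ (by
    rw [Scheme.Opens.range_ι]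
    rintro _ ⟨z, rfl⟩
    rw [hφ z]
    exact hyV)
  suffices h : a = π ≫ σ ≫ a by
    have h2 := congrArg (· ≫ V.ι) h
    simpa only [a, Category.assoc, IsOpenImmersion.lift_fac] using h2
  refine ext_of_isAffine ?_
  ext v
  obtain ⟨r, hr⟩ := hP (a.appTop.hom v)
  have hr' : π.appTop.hom ((Scheme.ΓSpecIso R).inv.hom r) = a.appTop.hom v := by
    rw [← hr, secHom_top]; rfl
  rw [Scheme.Hom.comp_appTop, Scheme.Hom.comp_appTop]
  show a.appTop.hom v = π.appTop.hom (σ.appTop.hom (a.appTop.hom v))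
  rw [← hr']
  refine congrArg π.appTop.hom ?_
  have h3 := congrArg (fun q => (Scheme.Hom.appTop q).hom ((Scheme.ΓSpecIso R).inv.hom r)) hσ
  rw [Scheme.Hom.comp_appTop] at h3
  exact h3.symm

theorem isArtinianRing_quot_pow (A : Type u) [CommRing A] [IsLocalRing A] [IsNoetherianRing A] (n : ℕ) :
    IsArtinianRing (A ⧸ IsLocalRing.maximalIdeal A ^ n) := by
  refine isArtinianRing_iff_isNoetherianRing_krullDimLE_zero.2 ⟨inferInstance, Ring.KrullDimLE.mk₀ fun P hP => ?_⟩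
  have hle : IsLocalRing.maximalIdeal A ≤ P.comap (Ideal.Quotient.mk (IsLocalRing.maximalIdeal A ^ n)) := fun x hx => by
    refine (hP.comap _).mem_of_pow_mem n ?_
    rw [Ideal.mem_comap, Ideal.Quotient.eq_zero_iff_mem.2 (Ideal.pow_mem_pow hx n)]
    exact zero_mem _
  have hm : (P.comap (Ideal.Quotient.mk (IsLocalRing.maximalIdeal A ^ n))).IsMaximal := by
    rw [← (IsLocalRing.maximalIdeal.isMaximal A).eq_of_le (hP.comap _).ne_top hle]; infer_instance
  rw [← Ideal.map_comap_of_surjective _ Ideal.Quotient.mk_surjective P]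
  exact (Ideal.map_eq_top_or_isMaximal_of_surjective _ Ideal.Quotient.mk_surjective hm).resolve_left
    (by rw [Ideal.map_comap_of_surjective _ Ideal.Quotient.mk_surjective P]; exact hP.ne_top)

/-- The `n`-th infinitesimal neighbourhood of a point. -/
def infNbhd (X : Scheme.{u}) (x : X) (n : ℕ) :
    Spec (CommRingCat.of (X.presheaf.stalk x ⧸ IsLocalRing.maximalIdeal (X.presheaf.stalk x) ^ (n + 1))) ⟶ X :=
  Spec.map (CommRingCat.ofHom (Ideal.Quotient.mk _)) ≫ X.fromSpecStalk x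

variable {X S Y : Scheme.{u}} {p : X ⟶ S}

/-- On infinitesimal neighbourhoods of points of a collapsed fibre, `f` factors through the section. -/
theorem infNbhd_comp_eq [IsLocallyNoetherian S] [Flat p] (e : S ⟶ X) (he : e ≫ p = 𝟙 S) (f : X ⟶ Y) (x : X)
    (hk : Function.Bijective (algebraMap (S.residueField (p x)) Γ(p.fiber (p x), ⊤)))
    (hs : ∀ z, p z = p x → f z = f x) (n : ℕ) : infNbhd X x n ≫ f = infNbhd X x n ≫ p ≫ e ≫ f := by
  let s := p x
  let I := IsLocalRing.maximalIdeal (S.presheaf.stalk s) ^ (n + 1)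
  let A : CommRingCat.{u} := CommRingCat.of (S.presheaf.stalk s ⧸ I)
  let J := IsLocalRing.maximalIdeal (X.presheaf.stalk x) ^ (n + 1)
  let φ : A ⟶ CommRingCat.of (X.presheaf.stalk x ⧸ J) := CommRingCat.ofHom (Ideal.quotientMap J (p.stalkMap x).hom
    (Ideal.map_le_iff_le_comap.1 (by
      rw [Ideal.map_pow]
      exact Ideal.pow_right_mono (IsLocalRing.map_maximalIdeal_le (p.stalkMap x).hom) _)))
  let iA : Spec A ⟶ S := Spec.map (CommRingCat.ofHom (Ideal.Quotient.mk I)) ≫ S.fromSpecStalk s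
  have hIle : I ≤ IsLocalRing.maximalIdeal (S.presheaf.stalk s) := Ideal.pow_le_self (Nat.succ_ne_zero n)
  let φ₀ : A ⟶ CommRingCat.of (S.residueField s) := CommRingCat.ofHom (Ideal.Quotient.lift I (S.residue s).hom
    (fun a ha => (IsLocalRing.residue_eq_zero_iff a).2 (hIle ha)))
  have hφ₀ : Function.Surjective φ₀.hom :=
    Ideal.Quotient.lift_surjective_of_surjective _ _ IsLocalRing.residue_surjective
  have h0 : Spec.map φ₀ ≫ iA = S.fromSpecResidueField s := by
    simp only [iA, Scheme.fromSpecResidueField, ← Spec.map_comp_assoc]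
    rfl
  haveI : Nontrivial A := φ₀.hom.domain_nontrivial
  haveI : IsArtinianRing A := isArtinianRing_quot_pow _ _
  haveI : IsLocalRing A := IsLocalRing.of_surjective' (Ideal.Quotient.mk I) Ideal.Quotient.mk_surjective
  let π := pullback.snd p iA
  haveI : Flat π := MorphismProperty.pullback_snd _ _ inferInstance
  let g₀ : p.fiber s ⟶ pullback p iA := pullback.lift (p.fiberι s) (p.fiberToSpecResidueField s ≫ Spec.map φ₀) (by
    rw [Category.assoc, h0]; exact pullback.condition)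
  have hc₀ : IsPullback g₀ (p.fiberToSpecResidueField s) π (Spec.map φ₀) := by
    refine IsPullback.of_right ?_ (pullback.lift_snd _ _ _) (IsPullback.of_hasPullback p iA)
    rw [pullback.lift_fst, h0]
    exact IsPullback.of_hasPullback p (S.fromSpecResidueField s)
  obtain ⟨m, hm⟩ := ENat.ne_top_iff_exists.1 (Module.length_ne_top (R := A) (M := A))
  have hconst : IsConst π := isConst_artin_aux' m hm.symm.le hφ₀ hc₀ fun F => by
    obtain ⟨c, hc⟩ := hk.2 F
    refine ⟨c, Eq.trans ?_ hc⟩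
    rw [secHom_top]
    rfl
  have hpt : ∀ w : Spec A, iA w = s := fun w => by
    obtain ⟨v⟩ : Nonempty ↥(Spec (S.residueField s)) := inferInstance
    rw [Subsingleton.elim (α := PrimeSpectrum A) w (Spec.map φ₀ v), ← Scheme.Hom.comp_apply, h0]
    exact S.fromSpecResidueField_apply s v
  let σ : Spec A ⟶ pullback p iA := pullback.lift (iA ≫ e) (𝟙 _) (by
    rw [Category.assoc, he, Category.comp_id, Category.id_comp])
  have key := eq_of_isConst hconst σ (pullback.lift_snd _ _ _) (pullback.fst p iA ≫ f) (f x) fun z => by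
    rw [Scheme.Hom.comp_apply]
    refine hs _ ?_
    rw [← Scheme.Hom.comp_apply, pullback.condition, Scheme.Hom.comp_apply, hpt]
  simp only [σ, π, pullback.lift_fst_assoc, ← pullback.condition_assoc, Category.assoc] at key
  have hl : infNbhd X x n ≫ p = Spec.map φ ≫ iA := by
    simp only [infNbhd, iA, Category.assoc, ← Scheme.SpecMap_stalkMap_fromSpecStalk, ← Spec.map_comp_assoc]
    rfl
  let l := pullback.lift (infNbhd X x n) (Spec.map φ) hl
  have h := congrArg (l ≫ ·) key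
  simpa only [l, pullback.lift_fst_assoc] using h

/-- Two morphisms agreeing on all infinitesimal neighbourhoods of a point agree near it. -/
theorem exists_nhd_eq [IsLocallyNoetherian X] (f g : X ⟶ Y) (x : X) (hx : f x = g x)
    (h : ∀ n, infNbhd X x n ≫ f = infNbhd X x n ≫ g) :
    ∃ D : X.Opens, x ∈ D ∧ D.ι ≫ f = D.ι ≫ g := by
  obtain ⟨_, ⟨V : Y.Opens, hV, rfl⟩, hyV, -⟩ := Y.isBasis_affineOpens.exists_subset_of_mem_open (Set.mem_univ (f x)) isOpen_univ
  have hV : IsAffineOpen V := hV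
  obtain ⟨_, ⟨O : X.Opens, hO, rfl⟩, hxO, hOle⟩ := X.isBasis_affineOpens.exists_subset_of_mem_open
    (show x ∈ f ⁻¹ᵁ V ⊓ g ⁻¹ᵁ V from ⟨hyV, by show g x ∈ V; rw [← hx]; exact hyV⟩) (f ⁻¹ᵁ V ⊓ g ⁻¹ᵁ V).2
  have hO : IsAffineOpen O := hO
  have ef : O ≤ f ⁻¹ᵁ V := fun z hz => (hOle hz).1
  have eg : O ≤ g ⁻¹ᵁ V := fun z hz => (hOle hz).2
  let gm := X.presheaf.germ O x hxO
  have hzero : ∀ v, gm.hom ((f.appLE V O ef).hom v - (g.appLE V O eg).hom v) = 0 := fun v => by
    have hall : ∀ n, gm.hom ((f.appLE V O ef).hom v - (g.appLE V O eg).hom v) ∈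
        IsLocalRing.maximalIdeal (X.presheaf.stalk x) ^ (n + 1) := fun n => by
      have hn := h n
      simp only [infNbhd, ← hO.fromSpecStalk_eq_fromSpecStalk hxO, IsAffineOpen.fromSpecStalk, Category.assoc,
        ← IsAffineOpen.SpecMap_appLE_fromSpec f hV hO ef, ← IsAffineOpen.SpecMap_appLE_fromSpec g hV hO eg] at hn
      simp only [← Category.assoc, cancel_mono, ← Spec.map_comp] at hn
      rw [map_sub, ← Ideal.Quotient.eq_zero_iff_mem, map_sub, sub_eq_zero]
      exact congr($(Spec.map_injective hn).hom v)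
    have hbot := Ideal.iInf_pow_eq_bot_of_isLocalRing _ (IsLocalRing.maximalIdeal.isMaximal (X.presheaf.stalk x)).ne_top
    rw [← Ideal.mem_bot, ← hbot, Ideal.mem_iInf]
    intro n
    exact Ideal.pow_le_pow_right (Nat.le_succ n) (hall n)
  let I := Ideal.span (Set.range fun v => (f.appLE V O ef).hom v - (g.appLE V O eg).hom v)
  haveI : IsNoetherianRing Γ(X, O) := IsLocallyNoetherian.component_noetherian ⟨O, hO⟩
  obtain ⟨T, hT⟩ := IsNoetherian.noetherian I
  have hTz : ∀ z ∈ T, gm.hom z = 0 := fun z hz => by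
    have hle : I ≤ RingHom.ker gm.hom := Ideal.span_le.2 (by rintro _ ⟨v, rfl⟩; exact hzero v)
    exact hle (hT ▸ Submodule.subset_span hz)
  letI := TopCat.Presheaf.algebra_section_stalk X.presheaf (⟨x, hxO⟩ : O)
  haveI : IsLocalization.AtPrime (X.presheaf.stalk x) (hO.primeIdealOf ⟨x, hxO⟩).asIdeal :=
    hO.isLocalization_stalk ⟨x, hxO⟩
  choose m hm using fun z : T => (IsLocalization.map_eq_zero_iff (hO.primeIdealOf ⟨x, hxO⟩).asIdeal.primeCompl
    (X.presheaf.stalk x) z.1).1 (hTz z.1 z.2)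
  let c := ∏ z : T, (m z).1
  have hc : c ∈ (hO.primeIdealOf ⟨x, hxO⟩).asIdeal.primeCompl := Submonoid.prod_mem _ fun z _ => (m z).2
  have hcI : ∀ z ∈ I, c * z = 0 := fun z hz => by
    rw [← hT] at hz
    induction hz using Submodule.span_induction with
    | mem w hw =>
      obtain ⟨d, hd⟩ := Finset.dvd_prod_of_mem (fun z : T => (m z).1) (Finset.mem_univ ⟨w, hw⟩)
      simp only [c, hd]
      linear_combination d * hm ⟨w, hw⟩
    | zero => rw [mul_zero]
    | add a b _ _ ha hb => rw [mul_add, ha, hb, add_zero]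
    | smul r a _ ha => rw [smul_eq_mul, mul_left_comm, ha, mul_zero]
  refine ⟨X.basicOpen c, ?_, ?_⟩
  · rw [X.mem_basicOpen c x hxO]
    exact IsLocalization.map_units (M := (hO.primeIdealOf ⟨x, hxO⟩).asIdeal.primeCompl) (X.presheaf.stalk x) ⟨c, hc⟩
  have hD : IsAffineOpen (X.basicOpen c) := hO.basicOpen c
  have hDO : X.basicOpen c ≤ O := X.basicOpen_le c
  have happ : f.appLE V (X.basicOpen c) (hDO.trans ef) = g.appLE V (X.basicOpen c) (hDO.trans eg) := by
    ext v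
    rw [← Scheme.Hom.appLE_map f ef (homOfLE hDO).op, ← Scheme.Hom.appLE_map g eg (homOfLE hDO).op]
    show (X.presheaf.map (homOfLE hDO).op).hom _ = (X.presheaf.map (homOfLE hDO).op).hom _
    rw [← sub_eq_zero, ← map_sub]
    have h1 := congrArg (X.presheaf.map (homOfLE hDO).op).hom (hcI _ (Ideal.subset_span ⟨v, rfl⟩))
    rw [map_mul, map_zero] at h1
    exact (RingedSpace.isUnit_res_basicOpen X.toSheafedSpace c).mul_right_eq_zero.1 h1
  rw [← cancel_epi hD.isoSpec.inv, ← Category.assoc, ← Category.assoc]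
  show hD.fromSpec ≫ f = hD.fromSpec ≫ g
  rw [← IsAffineOpen.SpecMap_appLE_fromSpec f hV hD (hDO.trans ef), ← IsAffineOpen.SpecMap_appLE_fromSpec g hV hD (hDO.trans eg),
    happ]

end Groth.Agent.RigidLib
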