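import Groth.Agent.RigidLib.Infinitesimal

/-!
# Rigidity over a base for closed morphisms with a section
-/

set_option autoImplicit false
set_option backward.isDefEq.respectTransparency false
set_option linter.style.haveILetI false

universe u

open CategoryTheory CategoryTheory.Limits AlgebraicGeometry TopologicalSpace Opposite

noncomputable section

namespace Groth.Agent.RigidLib

/-- A point in the closure of an open set of a locally Noetherian scheme specializes from a point of it. -/
theorem exists_specializes_of_mem_closure {S : Scheme.{u}} [IsLocallyNoetherian S] (U : S.Opens) {s : S}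
    (hs : s ∈ closure (U : Set S)) : ∃ η ∈ U, η ⤳ s := by
  obtain ⟨_, ⟨O : S.Opens, hO, rfl⟩, hsO, -⟩ := S.isBasis_affineOpens.exists_subset_of_mem_open (Set.mem_univ s) isOpen_univ
  have hO : IsAffineOpen O := hO
  haveI : IsAffine O.toScheme := hO
  haveI : CompactSpace ↥O.toScheme := isCompact_iff_compactSpace.mp hO.isCompact
  haveI : IsNoetherian O.toScheme := ⟨⟩
  let V : O.toScheme.Opens := O.ι ⁻¹ᵁ U
  let a : O.toScheme := ⟨s, hsO⟩
  have hcl : a ∈ closure (V : Set ↥O.toScheme) := by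
    show a ∈ closure (O.ι ⁻¹' (U : Set S))
    rw [← O.ι.isOpenEmbedding.isOpenMap.preimage_closure_eq_closure_preimage O.ι.continuous]
    exact hs
  obtain ⟨T, hTf, hTc, hTi, hT⟩ :=
    NoetherianSpace.exists_finite_set_isClosed_irreducible (isClosed_closure (s := (V : Set ↥O.toScheme)))
  let T' := {t ∈ T | (t ∩ V).Nonempty}
  have hsub : closure (V : Set ↥O.toScheme) ⊆ ⋃₀ T' := by
    refine closure_minimal (fun z hz => ?_) (by
      rw [Set.sUnion_eq_biUnion]
      exact (hTf.subset (Set.sep_subset T _)).isClosed_biUnion fun t ht => hTc t ht.1)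
    obtain ⟨t, ht, hzt⟩ := hT.subset (subset_closure hz)
    exact ⟨t, ⟨ht, z, hzt, hz⟩, hzt⟩
  obtain ⟨t, ⟨ht, hne⟩, hat⟩ := hsub hcl
  have hg : IsGenericPoint (hTi t ht).genericPoint t := (hTi t ht).isGenericPoint_genericPoint (hTc t ht)
  refine ⟨O.ι (hTi t ht).genericPoint, (hg.mem_open_set_iff V.2).2 hne, ?_⟩
  exact (hg.specializes hat).map O.ι.continuous

/-- Rigidity for a flat closed morphism with a section. -/
theorem exists_section_of_closedMap {X S Y : Scheme.{u}} [IsLocallyNoetherian S] [IsLocallyNoetherian X]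
    [ConnectedSpace S] (p : X ⟶ S) [Flat p] (hcl : IsClosedMap p)
    (hk : ∀ s : S, Function.Bijective (algebraMap (S.residueField s) Γ(p.fiber s, ⊤)))
    (e : S ⟶ X) (he : e ≫ p = 𝟙 S) {q : Y ⟶ S} [IsSeparated q] (f : X ⟶ Y) (hf : f ≫ q = p) (s : S)
    (hs : ∀ x x', p x = s → p x' = s → f x = f x') : ∃ t : S ⟶ Y, t ≫ q = 𝟙 S ∧ f = p ≫ t := by
  let g := p ≫ e ≫ f
  have hgq : g ≫ q = p := by
    simp only [g, Category.assoc, hf, he, Category.comp_id]
  have hpe : ∀ s, p (e s) = s := fun s => by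
    rw [← Scheme.Hom.comp_apply, he]; rfl
  let l : X ⟶ pullback q q := pullback.lift f g (hf.trans hgq.symm)
  let C := Set.range (pullback.fst l (pullback.diagonal q))
  have hC : IsClosed C := (pullback.fst l (pullback.diagonal q)).isClosedEmbedding.isClosed_range
  have hCeq : ∀ z ∈ C, f z = g z := by
    rintro _ ⟨w, rfl⟩
    have hd := pullback.condition (f := l) (g := pullback.diagonal q)
    have h2 := congrArg (· ≫ pullback.fst q q) hd
    have h3 := congrArg (· ≫ pullback.snd q q) hd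
    simp only [Category.assoc, l, pullback.lift_fst, pullback.lift_snd, pullback.diagonal_fst,
      pullback.diagonal_snd] at h2 h3
    have h4 := h2.trans h3.symm
    rw [← Scheme.Hom.comp_apply, h4, Scheme.Hom.comp_apply]
  let κ := {D : X.Opens // D.ι ≫ f = D.ι ≫ g}
  let D : κ → X.Opens := fun d => d.1
  have hDC : ((iSup D : X.Opens) : Set X) ⊆ C := fun z hz => by
    obtain ⟨⟨O, hO⟩, hzO : z ∈ O⟩ := Opens.mem_iSup.1 hz
    have h1 : O.ι ≫ l = (O.ι ≫ f) ≫ pullback.diagonal q := by
      apply pullback.hom_ext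
      · simp only [Category.assoc, l, pullback.lift_fst, pullback.diagonal_fst, Category.comp_id]
      · simp only [Category.assoc, l, pullback.lift_snd, pullback.diagonal_snd, Category.comp_id, hO]
    exact ⟨pullback.lift O.ι (O.ι ≫ f) h1 ⟨z, hzO⟩, by
      rw [← Scheme.Hom.comp_apply, pullback.lift_fst]; rfl⟩
  let U : S.Opens := ⟨(p '' ((iSup D : X.Opens) : Set X)ᶜ)ᶜ, (hcl _ (iSup D).2.isClosed_compl).isOpen_compl⟩
  have hmem : ∀ s', s' ∈ U ↔ ∀ x, p x = s' → x ∈ (iSup D : X.Opens) := fun s' =>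
    ⟨fun h x hx => by_contra fun hn => h ⟨x, hn, hx⟩, fun h ⟨x, hn, hx⟩ => hn (h x hx)⟩
  have hloc : ∀ s', (∀ x, p x = s' → f x = g x) → s' ∈ U := fun s' h => by
    rw [hmem]
    rintro x rfl
    have hz : ∀ z, p z = p x → f z = f x := fun z hz => by
      rw [h z hz, h x rfl]
      show (p ≫ e ≫ f) z = (p ≫ e ≫ f) x
      simp only [Scheme.Hom.comp_apply, hz]
    obtain ⟨O, hxO, hO⟩ := exists_nhd_eq f g x (h x rfl) fun n => infNbhd_comp_eq e he f x (hk _) hz n
    exact Opens.mem_iSup.2 ⟨⟨O, hO⟩, hxO⟩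
  have hsU : s ∈ U := hloc s fun x hx => by
    show f x = (p ≫ e ≫ f) x
    rw [Scheme.Hom.comp_apply, Scheme.Hom.comp_apply, hx]
    exact hs x (e s) hx (hpe s)
  have hclosed : IsClosed (U : Set S) := isClosed_of_closure_subset fun s' hs' => by
    obtain ⟨η, hη, hspec⟩ := exists_specializes_of_mem_closure U hs'
    refine hloc s' fun x hx => hCeq x ?_
    obtain ⟨x', hx', hpx'⟩ := Flat.generalizingMap p (show η ⤳ p x by rw [hx]; exact hspec)
    exact hx'.mem_closed hC (hDC ((hmem η).1 hη x' hpx'))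
  have huniv : (U : Set S) = Set.univ := IsClopen.eq_univ ⟨hclosed, U.2⟩ ⟨s, hsU⟩
  refine ⟨e ≫ f, by rw [Category.assoc, hf, he], ?_⟩
  refine (X.openCoverOfIsOpenCover D (eq_top_iff.2 fun x _ => (hmem (p x)).1 ?_ x rfl)).hom_ext _ _ fun d => d.2
  exact huniv.symm.subset (Set.mem_univ _)

end Groth.Agent.RigidLib
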